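import Cfsg.Agent.Fg24.Sizes1mn.Central

/-!
# The central case: abelian, and normal of prime index
-/

set_option autoImplicit false

open Subgroup

namespace Cfsg.Agent.Fg24.Sizes1mn

variable {G : Type*} [Group G] [Finite G] {m n : ℕ}

local notation "C[" x "]" => Subgroup.centralizer ({x} : Set G)

theorem exists_prime_unique {S : Sizes G m n} {x : G} (h : CentralParts S x) :
    ∃ p : ℕ, p.Prime ∧ p ∣ m ∧ ∀ r : ℕ, r.Prime → r ∣ m → r = p := by
  obtain ⟨p, hp, hpm⟩ := Nat.exists_prime_and_dvd S.one_lt_m.ne'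
  haveI := Fact.mk hp
  refine ⟨p, hp, hpm, fun r hr hrm => ?_⟩
  haveI := Fact.mk hr
  exact h.eq_of_two hrm hpm

namespace CentralParts

variable {S : Sizes G m n} {x : G} {p : ℕ} [hp : Fact p.Prime] (h : CentralParts S x)
include h

/-- No non-central `q`-element commutes with an element of maximal class size. -/
theorem good (hpm : p ∣ m) (hu : ∀ r : ℕ, r.Prime → r ∣ m → r = p) {q : ℕ} [hq : Fact q.Prime]
    (hqn : q ∣ n) {g v : G} (hg : ind g = m * n) (hv : v ∈ C[g]) (hvq : PElt q v) :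
    v ∈ center G := by
  by_contra hvZ
  have hqm : ¬ q ∣ m := fun hd => S.fact_ne hq.out hd hqn rfl
  have hall : ∀ w : G, w ∉ center G → ∃ u ∈ C[w], PElt q u ∧ u ∉ center G := by
    intro w hw
    refine exists_outside (center_le_cent g) ?_ hv hvq hvZ fun z hz => mem_center_iff.mp hz v
    rcases S.cases' hw with e | e
    · rw [S.pp_top hqm e]; exact pp_le_top _
    · exact (Sizes.pp_ind (hg.trans e.symm)).le
  obtain ⟨P⟩ : Nonempty (Sylow p G) := inferInstance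
  obtain ⟨y, hyP, hyZ, -, hyc⟩ := exists_second P.isPGroup' (S.sylow_not_le (Or.inl hpm) P)
  have hyp := pelt_of_mem P.isPGroup' hyP
  obtain ⟨u, hu1, huq, huZ⟩ := hall y hyZ
  obtain ⟨c, hc⟩ := h.conj_into hpm hqn hyp huq huZ (mem_cent.1 hu1).symm
  have hN := h.normal_of hu P hc hyp hyZ hpm hyc
  have hnot : ¬ (P : Subgroup G) ≤ C[x] := fun hle =>
    not_dvd_index_of_sylow P hle (hpm.trans (dvd_of_eq h.ind_eq.symm))
  obtain ⟨w, hwP, hwL⟩ := SetLike.not_le_iff_exists.mp hnot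
  have hwZ : w ∉ center G := fun hz => hwL (center_le_cent x hz)
  obtain ⟨u', hu1', huq', huZ'⟩ := hall w hwZ
  obtain ⟨d, hd⟩ :=
    h.conj_into hpm hqn (pelt_of_mem P.isPGroup' hwP) huq' huZ' (mem_cent.1 hu1').symm
  refine hwL ?_
  have := hN.conj_mem _ hd d⁻¹
  simpa [mul_assoc] using this

theorem abelian (hpm : p ∣ m) (hu : ∀ r : ℕ, r.Prime → r ∣ m → r = p) :
    ∀ a ∈ C[x], ∀ b ∈ C[x], Commute a b := by
  have key : C[x] ≤ centralizer (C[x] : Set G) := by
    refine TwoClassSizes.le_of_primePow_mem ?_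
    intro v hv r hr hvr
    haveI := Fact.mk hr
    suffices C[x] ≤ C[v] from mem_centralizer_iff.mpr fun a ha => mem_cent.1 (this ha)
    by_cases hvZ : v ∈ center G
    · exact fun a _ => mem_cent.2 (mem_center_iff.mp hvZ a)
    by_cases hrm : r ∣ m
    · exact h.central r hr hrm v hv hvr
    have hrn : r ∣ n := (S.prime_cases hvr hvZ).resolve_left hrm
    obtain ⟨z, hz, hzp, hzZ, hze⟩ := h.exists_central hpm (p := p)
    by_contra hle
    have hzx : ind z = m := by rw [ind, hze]; exact h.ind_eq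
    obtain ⟨hmn, e, -⟩ := S.step hzx (hze ▸ hv)
      (pelt_coprime (S.fact_ne hp.out hpm hrn) hzp hvr) (hze ▸ hle)
    refine hvZ (h.good hpm hu hrn hmn ?_ hvr)
    rw [e, hze]
    exact ⟨hv, self_mem_cent v⟩
  intro a ha b hb
  exact (mem_centralizer_iff.mp (key hb) a ha)

theorem cent_of_mem (hpm : p ∣ m) (hu : ∀ r : ℕ, r.Prime → r ∣ m → r = p) {a : G} (ha : a ∈ C[x])
    (haZ : a ∉ center G) : C[a] = C[x] :=
  h.cent_eq haZ fun b hb => mem_cent.2 (h.abelian hpm hu b hb a ha)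

/-- The normaliser of `C(x)` lies over it with index `p`. -/
theorem relIndex_normalizer (hpm : p ∣ m) (hu : ∀ r : ℕ, r.Prime → r ∣ m → r = p) :
    (C[x]).relIndex (normalizer (C[x] : Set G)) = p := by
  set L := C[x] with hL
  set M := normalizer (L : Set G) with hM
  have hconj : ∀ g ∈ M, ∀ d ∈ L, g * d * g⁻¹ ∈ L := fun g hg d hd =>
    (mem_normalizer_iff.mp hg d).mp hd
  have hdat : ConjData M L L := ⟨normal_of_conj hconj, fun g hg b hb => hconj g hg b hb,
    fun d hd _ b hb => h.abelian hpm hu d hd b hb, h.abelian hpm hu⟩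
  have hmov : ∀ g ∈ M, g ∉ L → ∀ b ∈ L, Commute g b → b ∈ center G := by
    intro g _ hgL b hb hc
    by_contra hbZ
    exact hgL (by rw [hL, ← h.cent_of_mem hpm hu hb hbZ]; exact mem_cent.2 hc)
  obtain ⟨q, hq, hqn⟩ := Nat.exists_prime_and_dvd S.one_lt_n.ne'
  haveI := Fact.mk hq
  obtain ⟨z, hz, hzp, hzZ, -⟩ := h.exists_central hpm (p := p)
  obtain ⟨v, hv, hvq, hvZ⟩ := h.exists_qelt hqn (q := q)
  obtain ⟨w, hwM, hwL, hwp⟩ := h.exists_outer hpm (p := p)
  exact relIndex_eq_of_two hdat (fun g _ z hz _ => mem_center_iff.mp hz g) hmov hz hzZ hzp hv hvZ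
    (pelt_coprime_prime (S.fact_ne hp.out hpm hqn).symm hvq) (dvd_relIndex hconj hwM hwp hwL)

/-- The main step: `C(x)` is normal. -/
theorem normal (hpm : p ∣ m) (hu : ∀ r : ℕ, r.Prime → r ∣ m → r = p) : (C[x]).Normal := by
  classical
  set L := C[x] with hL
  set N := normalizer (L : Set G) with hN
  have hrel : L.relIndex N = p := h.relIndex_normalizer hpm hu
  have hLN : L ≤ N := le_normalizer
  have hconj : ∀ g ∈ N, ∀ d ∈ L, g * d * g⁻¹ ∈ L := fun g hg d hd =>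
    (mem_normalizer_iff.mp hg d).mp hd
  by_contra hnn
  have hNidx : ∀ r : ℕ, r.Prime → r ∣ N.index → r = p := fun r hr hd =>
    hu r hr (by rw [← h.ind_eq]; exact hd.trans (index_dvd_of_le hLN))
  have hpp : pp p N = p * pp p L := by
    rw [pp, pp, ← card_mul_relIndex hLN, hrel,
      Nat.factorization_mul Nat.card_pos.ne' hp.out.ne_zero, Finsupp.add_apply,
      hp.out.factorization_self, pow_add, pow_one, mul_comm]
  obtain ⟨A, hAL, hA, hAc⟩ := exists_full p L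
  obtain ⟨P₁, hAP₁, hP₁N, hP₁, hP₁c⟩ := exists_full_ge hA (hAL.trans hLN)
  obtain ⟨P, hP⟩ := hP₁.exists_le_sylow
  have hmemA : ∀ g ∈ L, PElt p g → g ∈ A := fun g hg hgp =>
    mem_full_of_normal hA hAL hAc (h.full_normal hpm hAL hA) hg hgp
  -- the second-centre element
  obtain ⟨y, hyP, hyZ, hyp', hyc⟩ := exists_second P.isPGroup' (S.sylow_not_le (Or.inl hpm) P)
  have hyp := pelt_of_mem P.isPGroup' hyP
  obtain ⟨q, hq, hqn⟩ := Nat.exists_prime_and_dvd S.one_lt_n.ne'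
  haveI := Fact.mk hq
  have hqm : ¬ q ∣ m := fun hd => S.fact_ne hq hd hqn rfl
  have hyind : ind y = m * n := by
    refine (S.cases' hyZ).resolve_left fun e => hnn ?_
    obtain ⟨y', hy', hy'Z⟩ := S.exists_pelt (Or.inr hqn) (r := q)
    obtain ⟨v, hv, hvq, hvZ⟩ := exists_outside (center_le_cent y')
      (by rw [S.pp_top hqm e]; exact pp_le_top _) (self_mem_cent y') hy' hy'Z
      fun z hz => mem_center_iff.mp hz y'
    obtain ⟨c, hc⟩ := h.conj_into hpm hqn hyp hvq hvZ (mem_cent.1 hv).symm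
    exact h.normal_of hu P hc hyp hyZ hpm hyc
  have hnin : ∀ z ∈ L, z ∉ center G → z ∉ C[y] := by
    intro z hz hzZ hzy
    have hyL : y ∈ L := by rw [hL, ← h.cent_of_mem hpm hu hz hzZ]; exact cent_symm hzy
    refine S.m_lt_mn.ne ?_
    rw [← hyind, ind, h.cent_of_mem hpm hu hyL hyZ]
    exact h.ind_eq.symm
  -- commutators of `P` commute with `y`
  have hcomm : ∀ s ∈ (P : Subgroup G), ∀ t ∈ (P : Subgroup G), s * t * s⁻¹ * t⁻¹ ∈ C[y] := by
    intro s hs t ht
    have hf : ∀ a ∈ (P : Subgroup G), ∃ c ∈ center G, a * y * a⁻¹ = c * y ∧ a⁻¹ * y * a = c⁻¹ * y := by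
      intro a ha
      refine ⟨_, hyc a ha, (inv_mul_cancel_right _ _).symm, ?_⟩
      have hc := mem_center_iff.mp (inv_mem (hyc a ha)) a⁻¹
      have e : a⁻¹ * y * a = a⁻¹ * ((a * y * a⁻¹ * y⁻¹)⁻¹ * (a * y * a⁻¹)) * a := by group
      rw [e, ← mul_assoc a⁻¹, hc]
      group
    obtain ⟨c, hc, hs1, hs2⟩ := hf s hs
    obtain ⟨d, hd, ht1, ht2⟩ := hf t ht
    refine mem_cent.2 ?_
    show s * t * s⁻¹ * t⁻¹ * y = y * (s * t * s⁻¹ * t⁻¹)
    have hz : ∀ g : G, g * c = c * g := fun g => mem_center_iff.mp hc g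
    have hw : ∀ g : G, g * d = d * g := fun g => mem_center_iff.mp hd g
    have step1 : ∀ a e b : G, (∀ g, g * e = e * g) → a * (e * b) * a⁻¹ = e * (a * b * a⁻¹) := by
      intro a e b he
      rw [← mul_assoc, he a, mul_assoc e, mul_assoc e]
    have ht2' : t⁻¹ * y * t⁻¹⁻¹ = d⁻¹ * y := by rw [inv_inv]; exact ht2
    have hs2' : s⁻¹ * y * s⁻¹⁻¹ = c⁻¹ * y := by rw [inv_inv]; exact hs2
    have hz' : ∀ g : G, g * c⁻¹ = c⁻¹ * g := fun g => mem_center_iff.mp (inv_mem hc) g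
    have hw' : ∀ g : G, g * d⁻¹ = d⁻¹ * g := fun g => mem_center_iff.mp (inv_mem hd) g
    have e : (s * t * s⁻¹ * t⁻¹) * y * (s * t * s⁻¹ * t⁻¹)⁻¹ = y := by
      calc (s * t * s⁻¹ * t⁻¹) * y * (s * t * s⁻¹ * t⁻¹)⁻¹
          = s * (t * (s⁻¹ * (t⁻¹ * y * t⁻¹⁻¹) * s⁻¹⁻¹) * t⁻¹) * s⁻¹ := by group
        _ = y := by
          rw [ht2', step1 _ _ _ hw', hs2', step1 _ _ _ hw', step1 _ _ _ hz', ht1,
            step1 _ _ _ hw', step1 _ _ _ hz', step1 _ _ _ hw, hs1, ← mul_assoc c⁻¹ d,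
            hw c⁻¹, mul_assoc d c⁻¹, inv_mul_cancel_left, inv_mul_cancel_left]
    exact mul_inv_eq_iff_eq_mul.mp e
  set Zp := center G ⊓ (P : Subgroup G) with hZp
  set C₂ := C[y] ⊓ (P : Subgroup G) with hC₂
  have hC₂p : IsPGroup p C₂ := P.isPGroup'.to_le inf_le_right
  have hC₂le : Nat.card C₂ ≤ pp p L := by
    calc Nat.card C₂ ≤ pp p C[y] := card_le_pp hC₂p inf_le_left
      _ = pp p L := S.pp_eq hpm hyZ (S.not_center_of_ind (Or.inl h.ind_eq))
  have hP₁eq : ∀ g ∈ (P : Subgroup G), g ∈ N → g ∈ P₁ := by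
    intro g hg hgN
    have hG : IsPGroup p ((P : Subgroup G) ⊓ N : Subgroup G) := P.isPGroup'.to_le inf_le_left
    have heq : P₁ = (P : Subgroup G) ⊓ N := Subgroup.eq_of_le_of_card_ge (le_inf hP hP₁N)
      (hP₁c ▸ card_le_pp hG inf_le_right)
    exact heq ▸ ⟨hg, hgN⟩
  have hnotP : P₁ ≠ (P : Subgroup G) := by
    intro e
    refine hnn ?_
    have hi : N.index = 1 := by
      by_contra hne
      obtain ⟨r, hr, hrd⟩ := Nat.exists_prime_and_dvd hne
      obtain rfl := hNidx r hr hrd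
      exact not_dvd_index_of_sylow P (e ▸ hP₁N) hrd
    exact normalizer_eq_top_iff.mp (index_eq_one.mp hi)
  obtain ⟨z, hzL, hzp, hzZ, -⟩ := h.exists_central hpm (p := p)
  have hzA : z ∈ A := hmemA z hzL hzp
  have hzN : ∀ g : G, g * z * g⁻¹ ∈ L → g ∈ N := fun g hg => h.normalizes hpm hzL hzp hzZ hg
  -- the bound `|A : Z| ≤ p`
  have hA_le : pp p L ≤ p * Nat.card Zp := by
    obtain ⟨g₀, hg₀P, hg₀, hg₀n⟩ := exists_normalizer_gt P.isPGroup' hP hnotP
    set A' := A.map (MulAut.conj g₀).toMonoidHom with hA'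
    have hA'P₁ : A' ≤ P₁ := by rintro _ ⟨a, ha, rfl⟩; exact hg₀n a (hAP₁ ha)
    have hA'c : Nat.card A' = pp p L := by
      rw [hA', card_map_of_injective (MulEquiv.injective _), hAc]
    have hinf : A ⊓ A' ≤ Zp := by
      rintro u ⟨huA, a, ha, hau⟩
      refine ⟨?_, hP (hAP₁ huA)⟩
      by_contra huZ
      have hau' : g₀ * a * g₀⁻¹ = u := hau
      have haZ : a ∉ center G := fun hc => huZ (hau' ▸ (inferInstance : (center G).Normal).conj_mem _ hc g₀)
      exact hg₀ (hP₁eq g₀ hg₀P (h.normalizes hpm (hAL ha) (pelt_of_mem hA ha) haZ (hau' ▸ hAL huA)))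
    have h1 : A.relIndex P₁ ≤ p := by
      have := card_mul_relIndex (hAP₁)
      rw [hAc, hP₁c, hpp, mul_comm p] at this
      exact (Nat.eq_of_mul_eq_mul_left (pp_pos L) this).le
    have h2 : A.relIndex A' ≤ p := by
      refine le_trans (relIndex_le_of_le_right hA'P₁ ?_) h1
      exact index_ne_zero_of_finite
    calc pp p L = Nat.card A' := hA'c.symm
      _ = Nat.card (A ⊓ A' : Subgroup G) * A.relIndex A' := by
          rw [← inf_relIndex_right A A', card_mul_relIndex inf_le_right]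
      _ ≤ Nat.card Zp * p := Nat.mul_le_mul (Subgroup.card_le_of_le hinf) h2
      _ = p * Nat.card Zp := mul_comm _ _
  have hZC₂ : Zp ≤ C₂ := le_inf (inf_le_left.trans (center_le_cent y)) inf_le_right
  have hk : Nat.card (↥(P : Subgroup G) ⧸ P₁.subgroupOf P) ≤ p := by
    have hb : Nat.card (↥C₂ ⧸ Zp.subgroupOf C₂) ≤ p := by
      have := card_mul_relIndex hZC₂
      refine Nat.le_of_mul_le_mul_left ?_ (Nat.card_pos (α := Zp))
      calc Nat.card Zp * Nat.card (↥C₂ ⧸ Zp.subgroupOf C₂) = Nat.card C₂ := this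
        _ ≤ _ := hC₂le.trans (hA_le.trans (mul_comm _ _).le)
    refine le_trans ?_ hb
    have hmemC₂ : ∀ a : ↥(P : Subgroup G), (a : G) * z * (a : G)⁻¹ * z⁻¹ ∈ C₂ := fun a => by
      have hzP : z ∈ (P : Subgroup G) := hP (hAP₁ hzA)
      exact mem_inf.mpr ⟨hcomm _ a.2 z hzP,
        mul_mem (mul_mem (mul_mem a.2 hzP) (inv_mem a.2)) (inv_mem hzP)⟩
    refine Nat.card_le_card_of_injective (fun c => QuotientGroup.mk
      (⟨(c.out : ↥(P : Subgroup G)).1 * z * (c.out : ↥(P : Subgroup G)).1⁻¹ * z⁻¹,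
        hmemC₂ c.out⟩ : C₂)) ?_
    intro c d e
    have e' := QuotientGroup.eq.mp e
    rw [mem_subgroupOf] at e'
    simp only [Subgroup.coe_mul, Subgroup.coe_inv] at e'
    rw [← QuotientGroup.out_eq' c, ← QuotientGroup.out_eq' d, QuotientGroup.eq, mem_subgroupOf]
    simp only [Subgroup.coe_mul, Subgroup.coe_inv]
    set a : G := (c.out : ↥(P : Subgroup G)).1
    set b : G := (d.out : ↥(P : Subgroup G)).1
    show a⁻¹ * b ∈ P₁
    refine hP₁eq _ (mul_mem (inv_mem c.out.2) d.out.2) (hzN _ ?_)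
    have hc' := e'.1
    set z₀ := (a * z * a⁻¹ * z⁻¹)⁻¹ * (b * z * b⁻¹ * z⁻¹) with hz₀
    have e2 : b * z * b⁻¹ = a * z * a⁻¹ * z₀ := by
      have : b * z * b⁻¹ = (a * z * a⁻¹ * z⁻¹) * z₀ * z := by rw [hz₀]; group
      rw [this, mul_assoc, ← mem_center_iff.mp hc' z, ← mul_assoc, inv_mul_cancel_right]
    have e3 : a⁻¹ * b * z * (a⁻¹ * b)⁻¹ = z * z₀ := by
      calc a⁻¹ * b * z * (a⁻¹ * b)⁻¹ = a⁻¹ * (b * z * b⁻¹) * a := by group
        _ = z * (a⁻¹ * z₀ * a) := by rw [e2]; group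
        _ = z * z₀ := by rw [mem_center_iff.mp hc' a⁻¹, inv_mul_cancel_right]
    rw [e3]
    exact mul_mem hzL (center_le_cent x hc')
  -- `k = |G : N|`
  have hkN : N.index ≤ p := by
    refine le_trans (le_of_eq ?_) hk
    have h1 : Nat.card P₁ * Nat.card (↥(P : Subgroup G) ⧸ P₁.subgroupOf P) = pp p (⊤ : Subgroup G) :=
      (card_mul_relIndex hP).trans (by
        rw [P.card_eq_multiplicity, pp, Subgroup.card_top])
    rw [hP₁c, ← pp_mul p N] at h1
    rw [Nat.eq_of_mul_eq_mul_left (pp_pos N) h1]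
    exact Nat.eq_prime_pow_of_unique_prime_dvd index_ne_zero_of_finite
      (fun {r} hr hd => hNidx r hr hd) |>.trans (by
        congr 1
        obtain ⟨i, hi⟩ : ∃ i, N.index = p ^ i :=
          ⟨_, Nat.eq_prime_pow_of_unique_prime_dvd index_ne_zero_of_finite
            (fun {r} hr hd => hNidx r hr hd)⟩
        rw [hi, hp.out.primeFactorsList_pow, List.length_replicate, Nat.factorization_pow,
          Finsupp.smul_apply, hp.out.factorization_self, smul_eq_mul, mul_one])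
  -- semiregularity of a Sylow `q`-subgroup on the conjugates
  obtain ⟨Q, hQL, hQ, hQc⟩ := exists_full q L
  have hqp : q ≠ p := (S.fact_ne hp.out hpm hqn).symm
  have hQmem : ∀ g ∈ L, PElt q g → g ∈ Q := fun g hg hgq => by
    refine mem_full hQ hQL hQc hg hgq fun s hs => ?_
    rw [h.abelian hpm hu g hg s (hQL hs), mul_inv_cancel_right]
    exact hs
  obtain ⟨w, hwN, hwL, hwp⟩ := h.exists_outer hpm (p := p)
  have hmod : (center G).relIndex Q ≡ 1 [MOD p] := by
    refine relIndex_center_modEq hwp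
      (fun v hv => hQmem _ (hconj w hwN v (hQL hv)) (pelt_conj w (pelt_of_mem hQ hv)))
      (fun v hv => pelt_coprime_prime hqp (pelt_of_mem hQ hv)) fun v hv hc => ?_
    by_contra hvZ
    exact hwL ((h.cent_of_mem hpm hu (hQL hv) hvZ).le (mem_cent.2 hc))
  have hgt : 1 < (center G).relIndex Q := by
    obtain ⟨v, hv, hvq, hvZ⟩ := h.exists_qelt hqn (q := q)
    have h1 : (center G).relIndex Q ≠ 1 := fun e => hvZ (relIndex_eq_one.mp e (hQmem v hv hvq))
    have h2 : (center G).relIndex Q ≠ 0 := index_ne_zero_of_finite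
    omega
  have hp1 : p < (center G).relIndex Q := by
    have hd := (Nat.modEq_iff_dvd' hgt.le).mp hmod.symm
    have := Nat.le_of_dvd (by omega) hd
    omega
  have hNtop : N ≠ ⊤ := fun e => hnn (normalizer_eq_top_iff.mp e)
  obtain ⟨g₀, hg₀⟩ := SetLike.exists_not_mem_of_ne_top N hNtop
  have hlt : (center G).relIndex Q ≤ N.index := by
    refine Nat.card_le_card_of_injective
      (fun c : ↥Q ⧸ (center G).subgroupOf Q => (QuotientGroup.mk ((c.out : ↥Q).1 * g₀) : G ⧸ N)) ?_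
    intro c d e
    have e' := QuotientGroup.eq.mp e
    rw [← QuotientGroup.out_eq' c, ← QuotientGroup.out_eq' d, QuotientGroup.eq, mem_subgroupOf]
    simp only [Subgroup.coe_mul, Subgroup.coe_inv]
    set a : G := (c.out : ↥Q).1
    set b : G := (d.out : ↥Q).1
    have hu' : a⁻¹ * b ∈ Q := mul_mem (inv_mem c.out.2) d.out.2
    have h1 : g₀⁻¹ * (a⁻¹ * b) * g₀ ∈ N := by
      have : (a * g₀)⁻¹ * (b * g₀) = g₀⁻¹ * (a⁻¹ * b) * g₀ := by group
      rwa [this] at e'
    have h1q : PElt q (g₀⁻¹ * (a⁻¹ * b) * g₀) := by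
      have := pelt_conj g₀⁻¹ (pelt_of_mem hQ hu')
      rwa [inv_inv] at this
    have h2 : g₀⁻¹ * (a⁻¹ * b) * g₀ ∈ L :=
      mem_of_coprime_relIndex hconj h1 (hrel.symm ▸ pelt_coprime_prime hqp h1q)
    by_contra huZ
    refine hg₀ ?_
    have hu'Z : g₀⁻¹ * (a⁻¹ * b) * g₀ ∉ center G := fun hz => huZ (by
      have := (inferInstance : (center G).Normal).conj_mem _ hz g₀
      simpa [mul_assoc] using this)
    have h3 := h.cent_of_mem hpm hu h2 hu'Z
    have h4 := h.cent_of_mem hpm hu (hQL hu') huZ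
    have hiN : g₀⁻¹ ∈ N := by
      refine mem_normalizer_iff.mpr fun u => ?_
      show u ∈ C[x] ↔ g₀⁻¹ * u * g₀⁻¹⁻¹ ∈ C[x]
      conv_lhs => rw [← h4]
      conv_rhs => rw [← h3, show g₀⁻¹ * (a⁻¹ * b) * g₀ = g₀⁻¹ * (a⁻¹ * b) * g₀⁻¹⁻¹ by rw [inv_inv]]
      exact conj_mem_centralizer.symm
    simpa using inv_mem hiN
  omega

end CentralParts

end Cfsg.Agent.Fg24.Sizes1mn
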