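import Mathlib

/-!
# Semiregular coprime actions on abelian groups

A group `W` acts on a finite abelian group `B`, fixing a subgroup `Z₀` pointwise, such that only
elements of `Z₀` are fixed by non-trivial elements. If a prime `u` dividing `|W|` has a witness in
`B` then `W` has order `u`, under mild hypotheses.
-/

set_option autoImplicit false

open Finset

namespace Cfsg.Agent.Fg24.Sizes1mn

/-- Conjugation moves `(x * b) ^ k` in the coset of `b ^ k`. -/
theorem mul_pow_mem_coset {W : Type*} [Group W] {a b : W}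
    (hn : b * a * b⁻¹ ∈ Subgroup.zpowers a) {x : W} (hx : x ∈ Subgroup.zpowers a) :
    ∀ k : ℕ, (x * b) ^ k * (b ^ k)⁻¹ ∈ Subgroup.zpowers a := by
  have hc : ∀ y ∈ Subgroup.zpowers a, b * y * b⁻¹ ∈ Subgroup.zpowers a := by
    intro y hy
    obtain ⟨i, rfl⟩ := Subgroup.mem_zpowers_iff.mp hy
    have e : b * a ^ i * b⁻¹ = (b * a * b⁻¹) ^ i := by
      rw [conj_zpow]
    rw [e]
    exact zpow_mem hn i
  intro k
  induction k with
  | zero => simp
  | succ k IH =>
    have e : (x * b) ^ (k + 1) * (b ^ (k + 1))⁻¹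
        = x * (b * ((x * b) ^ k * (b ^ k)⁻¹) * b⁻¹) := by
      rw [pow_succ', pow_succ']
      group
    rw [e]
    exact mul_mem hx (hc _ IH)

/-- In the non-commuting case all the elements `x * b` have order `v`. -/
theorem mul_pow_eq_one {W : Type*} [Group W] {a b : W} {u v : ℕ} (hu : u.Prime)
    (ha : orderOf a = u) (hb : b ^ v = 1) (hn : b * a * b⁻¹ ∈ Subgroup.zpowers a)
    (hc : ¬ Commute a b) {x : W} (hx : x ∈ Subgroup.zpowers a) : (x * b) ^ v = 1 := by
  have h1 := mul_pow_mem_coset hn hx v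
  rw [hb, inv_one, mul_one] at h1
  by_contra hne
  haveI := Fact.mk hu
  have hcard : Nat.card (Subgroup.zpowers a) = u := by rw [Nat.card_zpowers, ha]
  have hgen : Subgroup.zpowers a ≤ Subgroup.zpowers ((x * b) ^ v) := by
    haveI : Finite (Subgroup.zpowers a) := Nat.finite_of_card_ne_zero (hcard ▸ hu.ne_zero)
    have hle : Subgroup.zpowers ((x * b) ^ v) ≤ Subgroup.zpowers a := Subgroup.zpowers_le.mpr h1
    haveI := Finite.of_injective _ (Subgroup.inclusion_injective hle)
    have hdvd := Subgroup.card_dvd_of_le hle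
    rw [hcard, Nat.dvd_prime hu] at hdvd
    rcases hdvd with h | h
    · exact absurd (Subgroup.zpowers_eq_bot.mp (Subgroup.eq_bot_of_card_eq _ h)) hne
    · exact (Subgroup.eq_of_le_of_card_ge hle (by rw [h, hcard])).ge
  have hmem := hgen (Subgroup.mem_zpowers a)
  obtain ⟨i, hi⟩ := Subgroup.mem_zpowers_iff.mp hmem
  have hxa : Commute a (x * b) := by
    rw [← hi]
    exact (((Commute.refl (x * b)).pow_left v).zpow_left i)
  obtain ⟨j, rfl⟩ := Subgroup.mem_zpowers_iff.mp hx
  have h2 : Commute a ((a ^ j)⁻¹ * (a ^ j * b)) :=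
    (((Commute.refl a).zpow_right j).inv_right).mul_right hxa
  rw [inv_mul_cancel_left] at h2
  exact hc h2

variable {W B : Type*} [Group W] [CommGroup B] (φ : W →* MulAut B) (Z₀ : Subgroup B)

/-- Only `Z₀` is fixed by `w`. -/
def Moves (w : W) : Prop := ∀ b : B, φ w b = b → b ∈ Z₀

variable {φ Z₀}

theorem norm_mem [Finite W] {a : W} (ha : Moves φ Z₀ a) (h : B) :
    ∏ i ∈ range (orderOf a), φ (a ^ i) h ∈ Z₀ := by
  refine ha _ ?_
  rw [map_prod]
  set f : ℕ → B := fun i => φ (a ^ i) h with hf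
  have e : ∀ i, φ a (f i) = f (i + 1) := by
    intro i
    simp only [hf, pow_succ', map_mul, MulAut.mul_apply]
  rw [Finset.prod_congr rfl fun i _ => e i]
  have h1 := Finset.prod_range_succ' f (orderOf a)
  have h2 := Finset.prod_range_succ f (orderOf a)
  have h0 : f (orderOf a) = f 0 := by
    show φ (a ^ orderOf a) h = φ (a ^ 0) h
    rw [pow_orderOf_eq_one, pow_zero]
  rw [h0] at h2
  exact mul_right_cancel (h1.symm.trans h2)

/-- The norm identity for a subgroup partitioned into a normal cyclic part and complements. -/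
theorem pair_pow_mem [Finite W] {a b : W} {v : ℕ} (hv : v.Prime)
    (hn : b * a * b⁻¹ ∈ Subgroup.zpowers a) (hb : b ∉ Subgroup.zpowers a)
    (hord : ∀ x ∈ Subgroup.zpowers a, (x * b) ^ v = 1) (ha : Moves φ Z₀ a)
    (hm : ∀ x ∈ Subgroup.zpowers a, Moves φ Z₀ (x * b)) (h : B) :
    h ^ orderOf a ∈ Z₀ := by
  classical
  set u := orderOf a with hu
  have hordv : ∀ x ∈ Subgroup.zpowers a, orderOf (x * b) = v := by
    intro x hx
    haveI := Fact.mk hv
    refine orderOf_eq_prime (hord x hx) fun e => hb ?_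
    have : b = x⁻¹ := eq_inv_of_mul_eq_one_right e
    rw [this]
    exact inv_mem hx
  have hpm : ∀ i : ℕ, a ^ i ∈ Subgroup.zpowers a := fun i =>
    pow_mem (Subgroup.mem_zpowers a) i
  have htot : ∏ k ∈ range v, ∏ i ∈ range u, φ ((a ^ i * b) ^ k) h ∈ Z₀ := by
    rw [Finset.prod_comm]
    refine prod_mem fun i _ => ?_
    have h1 := norm_mem (hm _ (hpm i)) h
    rwa [hordv _ (hpm i)] at h1
  have hrest : ∀ k ∈ range v, k ≠ 0 → ∏ i ∈ range u, φ ((a ^ i * b) ^ k) h ∈ Z₀ := by
    intro k hk hk0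
    have hcop : Nat.Coprime k v :=
      ((Nat.Prime.coprime_iff_not_dvd hv).mpr fun hd =>
        absurd (Nat.le_of_dvd (Nat.pos_of_ne_zero hk0) hd)
          (not_le.mpr (Finset.mem_range.mp hk))).symm
    have hinj1 : Set.InjOn (fun i => (a ^ i * b) ^ k) (range u : Finset ℕ) := by
      intro i hi j hj e
      have hi' : k.Coprime (orderOf (a ^ i * b)) := by rw [hordv _ (hpm i)]; exact hcop
      obtain ⟨c, hc⟩ := exists_pow_eq_self_of_coprime hi'
      have hj' : k.Coprime (orderOf (a ^ j * b)) := by rw [hordv _ (hpm j)]; exact hcop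
      obtain ⟨d, hd⟩ := exists_pow_eq_self_of_coprime hj'
      have e1 : (a ^ i * b) ^ k = (a ^ j * b) ^ k := e
      have e3 : a ^ i * b = a ^ j * b := by
        obtain ⟨c', hc'⟩ : ∃ c', k * c' ≡ 1 [MOD v] := by
          obtain ⟨c', hc'⟩ := Nat.exists_mul_mod_eq_one_of_coprime hcop hv.one_lt
          exact ⟨c', by rw [Nat.ModEq, hc'.2, Nat.mod_eq_of_lt hv.one_lt]⟩
        have r : ∀ x ∈ Subgroup.zpowers a, ((x * b) ^ k) ^ c' = x * b := by
          intro x hx
          rw [← pow_mul]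
          conv_rhs => rw [← pow_one (x * b)]
          rw [pow_eq_pow_iff_modEq, hordv x hx]
          exact hc'
        rw [← r _ (hpm i), ← r _ (hpm j), e1]
      exact pow_injOn_Iio_orderOf (Set.mem_Iio.mpr (Finset.mem_range.mp hi))
        (Set.mem_Iio.mpr (Finset.mem_range.mp hj)) (mul_right_cancel e3)
    have hinj2 : Set.InjOn (fun i => a ^ i * b ^ k) (range u : Finset ℕ) := by
      intro i hi j hj e
      exact pow_injOn_Iio_orderOf (Set.mem_Iio.mpr (Finset.mem_range.mp hi))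
        (Set.mem_Iio.mpr (Finset.mem_range.mp hj)) (mul_right_cancel e)
    have himg : (range u).image (fun i => (a ^ i * b) ^ k)
        = (range u).image (fun i => a ^ i * b ^ k) := by
      refine Finset.eq_of_subset_of_card_le ?_ ?_
      · intro x hx
        obtain ⟨i, _, rfl⟩ := Finset.mem_image.mp hx
        have h1 := mul_pow_mem_coset hn (hpm i) k
        obtain ⟨j, hj, hj'⟩ :=
          Finset.mem_image.mp ((isOfFinOrder_of_finite a).mem_zpowers_iff_mem_range_orderOf.mp h1)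
        refine Finset.mem_image.mpr ⟨j, hj, ?_⟩
        rw [hj', inv_mul_cancel_right]
      · rw [Finset.card_image_of_injOn hinj1, Finset.card_image_of_injOn hinj2]
    have e : ∏ i ∈ range u, φ ((a ^ i * b) ^ k) h = ∏ i ∈ range u, φ (a ^ i * b ^ k) h := by
      rw [← Finset.prod_image (f := fun x => φ x h) hinj1,
        ← Finset.prod_image (f := fun x => φ x h) hinj2, himg]
    rw [e]
    simpa only [map_mul, MulAut.mul_apply] using norm_mem ha (φ (b ^ k) h)
  rw [← Finset.mul_prod_erase (range v) _ (Finset.mem_range.mpr hv.pos)] at htot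
  have hr : ∏ k ∈ (range v).erase 0, ∏ i ∈ range u, φ ((a ^ i * b) ^ k) h ∈ Z₀ :=
    prod_mem fun k hk => hrest k (Finset.mem_of_mem_erase hk) (Finset.ne_of_mem_erase hk)
  have h0 := (Subgroup.mul_mem_cancel_right Z₀ hr).mp htot
  simpa using h0

theorem mem_of_pow_mem {h : B} {u : ℕ} (hu : h ^ u ∈ Z₀) (hc : (orderOf h).Coprime u) :
    h ∈ Z₀ := by
  obtain ⟨c, hc⟩ := exists_pow_eq_self_of_coprime hc.symm
  rw [← hc]
  exact pow_mem hu c

variable [Finite W] [Finite B]

/-- A fixed vector modulo `Z₀` for an element of `u`-power order. -/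
theorem exists_almost_fixed (hfix : ∀ w, ∀ z ∈ Z₀, φ w z = z) {u : ℕ} (hu : u.Prime) {h₀ : B}
    (h₀Z : h₀ ∉ Z₀) {k : ℕ} (hk : h₀ ^ u ^ k ∈ Z₀) {w : W} {j : ℕ} (hw : w ^ u ^ j = 1) :
    ∃ h : B, h ∉ Z₀ ∧ h ^ u ∈ Z₀ ∧ φ w h * h⁻¹ ∈ Z₀ := by
  classical
  haveI := Fact.mk hu
  let K : Subgroup B := Z₀.comap (powMonoidHom u)
  have hZK : Z₀ ≤ K := fun z hz => pow_mem hz u
  -- a witness in `K` outside `Z₀`
  obtain ⟨h₁, h₁K, h₁Z⟩ : ∃ h ∈ K, h ∉ Z₀ := by
    by_contra hcon
    push Not at hcon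
    have : ∀ i, ∀ b : B, b ^ u ^ i ∈ Z₀ → b ∈ Z₀ := by
      intro i
      induction i with
      | zero => intro b hb; simpa using hb
      | succ i IH =>
        intro b hb
        refine IH b (hcon _ ?_)
        show (b ^ u ^ i) ^ u ∈ Z₀
        rwa [← pow_mul, ← pow_succ]
    exact h₀Z (this k h₀ hk)
  let Q := ↥K ⧸ Z₀.subgroupOf K
  have hKinv : ∀ g : W, ∀ b ∈ K, φ g b ∈ K := by
    intro g b hb
    show (φ g b) ^ u ∈ Z₀
    rw [← map_pow, hfix g (b ^ u) hb]
    exact hb
  let f : W → Q → Q := fun g => Quotient.map' (fun b : K => (⟨φ g b, hKinv g b b.2⟩ : K)) (by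
    intro a b hab
    rw [QuotientGroup.leftRel_apply, Subgroup.mem_subgroupOf] at hab ⊢
    simp only [Subgroup.coe_mul, Subgroup.coe_inv] at hab ⊢
    rw [← map_inv, ← map_mul, hfix g _ hab]
    exact hab)
  have hfone : ∀ q : Q, f 1 q = q := by
    intro q
    induction q using Quotient.inductionOn' with
    | h b => exact congrArg Quotient.mk'' (Subtype.ext (by simp))
  have hfmul : ∀ g g' : W, ∀ q : Q, f (g * g') q = f g (f g' q) := by
    intro g g' q
    induction q using Quotient.inductionOn' with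
    | h b => exact congrArg Quotient.mk'' (Subtype.ext (by simp [map_mul]))
  let act : W →* Equiv.Perm Q :=
    { toFun := fun g => ⟨f g, f g⁻¹, fun q => by rw [← hfmul, inv_mul_cancel, hfone],
        fun q => by rw [← hfmul, mul_inv_cancel, hfone]⟩
      map_one' := Equiv.ext hfone
      map_mul' := fun g g' => Equiv.ext (hfmul g g') }
  have hQ : IsPGroup u Q := by
    intro q
    refine ⟨1, ?_⟩
    induction q using QuotientGroup.induction_on with
    | H b =>
      rw [← QuotientGroup.mk_pow, QuotientGroup.eq_one_iff, Subgroup.mem_subgroupOf, pow_one]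
      exact b.2
  haveI : Fintype Q := Fintype.ofFinite Q
  have hne : (QuotientGroup.mk ⟨h₁, h₁K⟩ : Q) ≠ 1 := by
    rw [Ne, QuotientGroup.eq_one_iff, Subgroup.mem_subgroupOf]
    exact h₁Z
  haveI : Nontrivial Q := ⟨_, _, hne⟩
  have hdvd : u ∣ Fintype.card Q := by
    rw [← Nat.card_eq_fintype_card]
    obtain ⟨i, hi⟩ := IsPGroup.iff_card.mp hQ
    rw [hi]
    refine dvd_pow_self u fun e => ?_
    rw [e, pow_zero] at hi
    exact absurd hi Finite.one_lt_card.ne'
  have hone : act w (1 : Q) = 1 := by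
    show f w (QuotientGroup.mk (1 : K)) = QuotientGroup.mk (1 : K)
    exact congrArg Quotient.mk'' (Subtype.ext (by simp))
  obtain ⟨q, hq, hq1⟩ := Equiv.Perm.exists_fixed_point_of_prime' (n := j) hdvd
    (σ := act w) (by rw [← map_pow, hw, map_one]) hone
  induction q using Quotient.inductionOn' with
  | h b =>
    refine ⟨b, fun e => hq1 ((QuotientGroup.eq_one_iff b).mpr (Subgroup.mem_subgroupOf.mpr e)),
      b.2, ?_⟩
    have h2 := Quotient.exact' hq
    rw [QuotientGroup.leftRel_apply, Subgroup.mem_subgroupOf] at h2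
    simp only [Subgroup.coe_mul, Subgroup.coe_inv] at h2
    have h3 := inv_mem h2
    rwa [mul_inv_rev, inv_inv, mul_comm] at h3

/-- Elements of `u`-power order have order `u`. -/
theorem own_pow (hfix : ∀ w, ∀ z ∈ Z₀, φ w z = z) (hmov : ∀ w ≠ 1, Moves φ Z₀ w) {u : ℕ}
    (hu : u.Prime) {h₀ : B} (h₀Z : h₀ ∉ Z₀) {k : ℕ} (hk : h₀ ^ u ^ k ∈ Z₀) {w : W} {j : ℕ}
    (hw : w ^ u ^ j = 1) : w ^ u = 1 := by
  obtain ⟨h, hZ, hu', hc⟩ := exists_almost_fixed hfix hu h₀Z hk hw
  obtain ⟨c, hcZ, hce⟩ : ∃ c ∈ Z₀, φ w h = c * h := ⟨_, hc, (inv_mul_cancel_right _ _).symm⟩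
  have hit : ∀ i : ℕ, φ (w ^ i) h = c ^ i * h := by
    intro i
    induction i with
    | zero => simp
    | succ i IH =>
      rw [pow_succ', map_mul, MulAut.mul_apply, IH, map_mul, map_pow, hfix w c hcZ, hce,
        ← mul_assoc, ← pow_succ]
  by_contra hne
  refine hZ (hmov _ hne h ?_)
  have h1 : φ w (h ^ u) = h ^ u := hfix w _ hu'
  rw [map_pow, hce, mul_pow, mul_eq_right] at h1
  rw [hit, h1, one_mul]

/-- An element of order prime to `u` commuting with a non-trivial `u`-element is trivial. -/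
theorem own_commute (hfix : ∀ w, ∀ z ∈ Z₀, φ w z = z) (hmov : ∀ w ≠ 1, Moves φ Z₀ w) {u : ℕ}
    (hu : u.Prime) {h₀ : B} (h₀Z : h₀ ∉ Z₀) {k : ℕ} (hk : h₀ ^ u ^ k ∈ Z₀) {w g : W}
    (hw : w ^ u = 1) (hw1 : w ≠ 1) (hg : (orderOf g).Coprime u) (hgw : Commute g w) : g = 1 := by
  obtain ⟨h, hZ, hu', hc⟩ :=
    exists_almost_fixed hfix hu h₀Z hk (w := w) (j := 1) (by rwa [pow_one])
  obtain ⟨c, hcZ, hce⟩ : ∃ c ∈ Z₀, φ w h = c * h := ⟨_, hc, (inv_mul_cancel_right _ _).symm⟩
  set z := φ g h * h⁻¹ with hz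
  have hzZ : z ∈ Z₀ := by
    refine hmov w hw1 z ?_
    have e : φ w (φ g h) = φ g (φ w h) := by
      rw [← MulAut.mul_apply, ← map_mul, ← hgw.eq, map_mul, MulAut.mul_apply]
    rw [hz, map_mul, map_inv, e, hce, map_mul, hfix g c hcZ, mul_inv_rev]
    rw [mul_comm c, mul_comm h⁻¹, mul_assoc, mul_inv_cancel_left]
  have hze : φ g h = z * h := (inv_mul_cancel_right _ _).symm
  have hit : ∀ i : ℕ, φ (g ^ i) h = z ^ i * h := by
    intro i
    induction i with
    | zero => simp
    | succ i IH =>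
      rw [pow_succ', map_mul, MulAut.mul_apply, IH, map_mul, map_pow, hfix g z hzZ, hze,
        ← mul_assoc, ← pow_succ]
  have h1 : z ^ u = 1 := by
    have h1 : φ g (h ^ u) = h ^ u := hfix g _ hu'
    rwa [map_pow, hze, mul_pow, mul_eq_right] at h1
  have h2 : z ^ orderOf g = 1 := by
    have h2 := hit (orderOf g)
    rw [pow_orderOf_eq_one, map_one, MulAut.one_apply, right_eq_mul] at h2
    exact h2
  have hz1 : z = 1 := by
    have := pow_gcd_eq_one.mpr ⟨h2, h1⟩
    rwa [hg.gcd_eq_one, pow_one] at this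
  by_contra hne
  exact hZ (hmov g hne h (by rw [hze, hz1, one_mul]))

omit [Finite W] in
/-- A group of exponent `u` moving a witness of order prime to `u` has order at most `u`. -/
theorem card_le_of_exponent [Finite W] {u : ℕ} (hu : u.Prime) {U : Subgroup W}
    (hexp : ∀ w ∈ U, w ^ u = 1) (hmov : ∀ w ∈ U, w ≠ 1 → Moves φ Z₀ w) {h : B} (hZ : h ∉ Z₀)
    (hh : (orderOf h).Coprime u) : Nat.card U ≤ u := by
  haveI := Fact.mk hu
  by_cases hU : U = ⊥
  · rw [hU, Subgroup.card_bot]; exact hu.one_lt.le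
  haveI : Nontrivial U := (Subgroup.nontrivial_iff_ne_bot U).mpr hU
  have hP : IsPGroup u U := fun w => ⟨1, Subtype.ext (by simpa using hexp w w.2)⟩
  haveI := hP.center_nontrivial
  obtain ⟨⟨⟨a, haU⟩, hac⟩, ha1⟩ := exists_ne (1 : Subgroup.center U)
  have ha1' : a ≠ 1 := fun e => ha1 (Subtype.ext (Subtype.ext e))
  have hao : orderOf a = u := orderOf_eq_prime (hexp a haU) ha1'
  have hle : U ≤ Subgroup.zpowers a := by
    intro b hb
    by_contra hbn
    have hcom : Commute a b := by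
      have := Subgroup.mem_center_iff.mp hac ⟨b, hb⟩
      exact (congrArg Subtype.val this).symm
    have hn : b * a * b⁻¹ ∈ Subgroup.zpowers a := by
      rw [hcom.symm.eq, mul_inv_cancel_right]; exact Subgroup.mem_zpowers a
    have hxU : ∀ x ∈ Subgroup.zpowers a, x * b ∈ U := fun x hx =>
      mul_mem ((Subgroup.zpowers_le.mpr haU) hx) hb
    have key := pair_pow_mem (φ := φ) (Z₀ := Z₀) hu hn hbn
      (fun x hx => hexp _ (hxU x hx)) (hmov a haU ha1')
      (fun x hx => hmov _ (hxU x hx) fun e => hbn (by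
        have : b = x⁻¹ := eq_inv_of_mul_eq_one_right e
        exact this ▸ inv_mem hx)) h
    rw [hao] at key
    exact hZ (mem_of_pow_mem key hh)
  calc Nat.card U ≤ Nat.card (Subgroup.zpowers a) := Subgroup.card_le_of_le hle
    _ = u := by rw [Nat.card_zpowers, hao]

/-- The main criterion: `W` has order `u`. -/
theorem card_eq_prime (hfix : ∀ w, ∀ z ∈ Z₀, φ w z = z) (hmov : ∀ w ≠ 1, Moves φ Z₀ w) {u : ℕ}
    [Fact u.Prime] {h₀ : B} (h₀Z : h₀ ∉ Z₀) {k : ℕ} (hk : h₀ ^ u ^ k = 1)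
    (hdvd : u ∣ Nat.card W) (hU : ∀ U : Subgroup W, IsPGroup u U → Nat.card U ≤ u)
    (hN : ∀ a g : W, orderOf a = u → (orderOf g).Prime → orderOf g ≠ u →
      g * a * g⁻¹ ∈ Subgroup.zpowers a → ¬ Commute a g → False) :
    Nat.card W = u := by
  have hu : u.Prime := Fact.out
  have hk' : h₀ ^ u ^ k ∈ Z₀ := hk ▸ one_mem Z₀
  obtain ⟨a, ha⟩ := exists_prime_orderOf_dvd_card' u hdvd
  have ha1 : a ≠ 1 := fun e => hu.ne_one (by rw [← ha, e, orderOf_one])
  have hA : IsPGroup u (Subgroup.zpowers a) :=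
    IsPGroup.of_card (n := 1) (by rw [Nat.card_zpowers, ha, pow_one])
  obtain ⟨P, hP⟩ := hA.exists_le_sylow
  have hPa : (P : Subgroup W) = Subgroup.zpowers a :=
    (Subgroup.eq_of_le_of_card_ge hP (by rw [Nat.card_zpowers, ha]; exact hU _ P.isPGroup')).symm
  have hnorm : Subgroup.normalizer ((P : Subgroup W) : Set W)
      ≤ Subgroup.centralizer ((P : Subgroup W) : Set W) := by
    set N := Subgroup.normalizer ((P : Subgroup W) : Set W) with hNdef
    have hNP : IsPGroup u N := by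
      refine IsPGroup.of_card (n := (Nat.card N).primeFactorsList.length) ?_
      refine Nat.eq_prime_pow_of_unique_prime_dvd Nat.card_pos.ne' fun {v} hv hvd => ?_
      by_contra hvu
      haveI := Fact.mk hv
      obtain ⟨⟨g, hgN⟩, hg⟩ := exists_prime_orderOf_dvd_card' v hvd
      rw [Subgroup.orderOf_mk] at hg
      have hga : g * a * g⁻¹ ∈ Subgroup.zpowers a := by
        rw [← hPa]
        exact (Subgroup.mem_normalizer_iff.mp hgN a).mp (hPa ▸ Subgroup.mem_zpowers a)
      by_cases hc : Commute a g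
      · have hg1 := own_commute hfix hmov hu h₀Z hk' (ha ▸ pow_orderOf_eq_one a) ha1
          (by rw [hg]; exact (Nat.coprime_primes hv hu).mpr hvu) hc.symm
        exact hv.ne_one (by rw [← hg, hg1, orderOf_one])
      · exact hN a g ha (hg ▸ hv) (hg ▸ hvu) hga hc
    have hNeq : N = (P : Subgroup W) :=
      (Subgroup.eq_of_le_of_card_ge (hP.trans (Subgroup.le_normalizer.trans le_rfl))
        (by rw [Nat.card_zpowers, ha]; exact hU N hNP)).symm.trans hPa.symm
    rw [hNeq, hPa]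
    intro x hx
    rw [Subgroup.mem_centralizer_iff]
    intro y hy
    obtain ⟨i, rfl⟩ := Subgroup.mem_zpowers_iff.mp hx
    obtain ⟨j, rfl⟩ := Subgroup.mem_zpowers_iff.mp hy
    exact ((Commute.refl a).zpow_zpow j i).eq
  set K := (MonoidHom.transferSylow P hnorm).ker with hK
  have hcompl : Subgroup.IsComplement' K P := MonoidHom.ker_transferSylow_isComplement' P hnorm
  have hKcard : Nat.card K = (P : Subgroup W).index := hcompl.index_eq_card.symm
  have hPcard : Nat.card (P : Subgroup W) = u := by rw [hPa, Nat.card_zpowers, ha]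
  by_contra hne
  have hK1 : Nat.card K ≠ 1 := by
    intro e
    apply hne
    rw [← Subgroup.card_mul_index (P : Subgroup W), ← hKcard, e, mul_one, hPcard]
  obtain ⟨v, hv, hvd⟩ := Nat.exists_prime_and_dvd hK1
  haveI := Fact.mk hv
  have hvu : v ≠ u := fun e => P.not_dvd_index (hKcard ▸ e ▸ hvd)
  obtain ⟨V⟩ : Nonempty (Sylow v K) := inferInstance
  set V' := (V : Subgroup K).map K.subtype with hV'
  have hfr : Subgroup.normalizer (V' : Set W) ⊔ K = ⊤ := Sylow.normalizer_sup_eq_top V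
  obtain ⟨e, heN, he⟩ : ∃ e ∈ Subgroup.normalizer (V' : Set W), orderOf e = u := by
    have h1 : K.relIndex (Subgroup.normalizer (V' : Set W)) = u := by
      rw [← Subgroup.relIndex_sup_right, hfr, Subgroup.relIndex_top_right,
        hcompl.symm.index_eq_card, hPcard]
    have h2 : u ∣ Nat.card (Subgroup.normalizer (V' : Set W)) :=
      h1 ▸ Subgroup.index_dvd_card _
    obtain ⟨⟨e, heN⟩, he⟩ := exists_prime_orderOf_dvd_card' u h2
    exact ⟨e, heN, by rwa [Subgroup.orderOf_mk] at he⟩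
  have he1 : e ≠ 1 := fun h => hu.ne_one (by rw [← he, h, orderOf_one])
  have hV'p : IsPGroup v V' := V.isPGroup'.map _
  haveI : Nontrivial V' := by
    rw [Subgroup.nontrivial_iff_ne_bot]
    intro e0
    have h1 : v ∣ Nat.card V' := by
      rw [hV', Subgroup.card_map_of_injective K.subtype_injective]
      exact V.dvd_card_of_dvd_card hvd
    rw [e0, Subgroup.card_bot] at h1
    exact hv.ne_one (Nat.dvd_one.mp h1)
  let E : Subgroup W :=
    { carrier := {g | g ∈ V' ∧ (∀ y ∈ V', Commute g y) ∧ g ^ v = 1}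
      one_mem' := ⟨one_mem _, fun y _ => Commute.one_left y, one_pow v⟩
      mul_mem' := fun {g g'} hg hg' => ⟨mul_mem hg.1 hg'.1,
        fun y hy => (hg.2.1 y hy).mul_left (hg'.2.1 y hy),
        by rw [(hg.2.1 g' hg'.1).mul_pow, hg.2.2, hg'.2.2, one_mul]⟩
      inv_mem' := fun {g} hg => ⟨inv_mem hg.1, fun y hy => (hg.2.1 y hy).inv_left,
        by rw [inv_pow, hg.2.2, inv_one]⟩ }
  haveI := hV'p.center_nontrivial
  obtain ⟨⟨⟨g, hgV⟩, hgc⟩, hgo⟩ := exists_prime_orderOf_dvd_card' v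
    (show v ∣ Nat.card (Subgroup.center V') by
      obtain ⟨i, hi⟩ := IsPGroup.iff_card.mp (hV'p.to_subgroup (Subgroup.center V'))
      rw [hi]
      refine dvd_pow_self v fun e0 => ?_
      rw [e0, pow_zero] at hi
      exact absurd hi Finite.one_lt_card.ne')
  rw [Subgroup.orderOf_mk, Subgroup.orderOf_mk] at hgo
  have hgE : g ∈ E := ⟨hgV, fun y hy => (congrArg Subtype.val
    (Subgroup.mem_center_iff.mp hgc ⟨y, hy⟩)).symm, hgo ▸ pow_orderOf_eq_one g⟩
  have hcop : (orderOf h₀).Coprime v :=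
    Nat.Coprime.coprime_dvd_left (orderOf_dvd_of_pow_eq_one hk)
      (((Nat.coprime_primes hu hv).mpr hvu.symm).pow_left k)
  have hEg : E = Subgroup.zpowers g := by
    refine (Subgroup.eq_of_le_of_card_ge (Subgroup.zpowers_le.mpr hgE) ?_).symm
    rw [Nat.card_zpowers, hgo]
    exact card_le_of_exponent hv (fun w hw => hw.2.2) (fun w _ hw => hmov w hw) h₀Z hcop
  have heg : e * g * e⁻¹ ∈ Subgroup.zpowers g := by
    have hi := Subgroup.mem_normalizer_iff.mp heN
    rw [← hEg]
    refine ⟨(hi g).mp hgV, fun y hy => ?_, by rw [conj_pow, hgE.2.2, mul_one, mul_inv_cancel]⟩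
    have h1 : e⁻¹ * y * e ∈ V' := by
      have := (Subgroup.mem_normalizer_iff.mp (inv_mem heN) y).mp hy
      simpa using this
    have h2 := hgE.2.1 _ h1
    show e * g * e⁻¹ * y = y * (e * g * e⁻¹)
    calc e * g * e⁻¹ * y = e * (g * (e⁻¹ * y * e)) * e⁻¹ := by group
      _ = e * (e⁻¹ * y * e * g) * e⁻¹ := by rw [h2.eq]
      _ = y * (e * g * e⁻¹) := by group
  have hg1 : g ≠ 1 := fun h => hv.ne_one (by rw [← hgo, h, orderOf_one])
  have heu : e ^ u = 1 := he ▸ pow_orderOf_eq_one e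
  by_cases hc : Commute g e
  · exact hg1 (own_commute hfix hmov hu h₀Z hk' heu he1
      (by rw [hgo]; exact (Nat.coprime_primes hv hu).mpr hvu) hc)
  · have hnot : e ∉ Subgroup.zpowers g := fun hm => hc (by
      obtain ⟨i, rfl⟩ := Subgroup.mem_zpowers_iff.mp hm
      exact (Commute.refl g).zpow_right i)
    have key := pair_pow_mem (φ := φ) (Z₀ := Z₀) hu heg hnot
      (fun x hx => mul_pow_eq_one hv hgo heu heg hc hx) (hmov g hg1)
      (fun x hx => hmov _ fun h => hnot (by
        have : e = x⁻¹ := eq_inv_of_mul_eq_one_right h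
        exact this ▸ inv_mem hx)) h₀
    rw [hgo] at key
    exact h₀Z (mem_of_pow_mem key hcop)

/-- Two witnesses for different primes force order `u`. -/
theorem card_eq_prime_of_two (hfix : ∀ w, ∀ z ∈ Z₀, φ w z = z) (hmov : ∀ w ≠ 1, Moves φ Z₀ w)
    {u : ℕ} [Fact u.Prime] {h₀ : B} (h₀Z : h₀ ∉ Z₀) {k : ℕ} (hk : h₀ ^ u ^ k = 1)
    (hdvd : u ∣ Nat.card W) {h₁ : B} (h₁Z : h₁ ∉ Z₀) (hh₁ : (orderOf h₁).Coprime u) :
    Nat.card W = u := by
  have hu : u.Prime := Fact.out
  refine card_eq_prime hfix hmov h₀Z hk hdvd (fun U hU => ?_) (fun a g ha hg hgu hn hc => ?_)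
  · refine card_le_of_exponent hu (fun w hw => ?_) (fun w _ hw => hmov w hw) h₁Z hh₁
    obtain ⟨j, hj⟩ := hU ⟨w, hw⟩
    exact own_pow hfix hmov hu h₀Z (k := k) (hk ▸ one_mem Z₀) (j := j)
      (congrArg Subtype.val hj)
  · have hnot : g ∉ Subgroup.zpowers a := fun hm => hc (by
      obtain ⟨i, rfl⟩ := Subgroup.mem_zpowers_iff.mp hm
      exact (Commute.refl a).zpow_right i)
    have key := pair_pow_mem (φ := φ) (Z₀ := Z₀) hg hn hnot
      (fun x hx => mul_pow_eq_one hu ha (pow_orderOf_eq_one g) hn hc hx)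
      (hmov a fun e => hu.ne_one (by rw [← ha, e, orderOf_one]))
      (fun x hx => hmov _ fun h => hnot (by
        have : g = x⁻¹ := eq_inv_of_mul_eq_one_right h
        exact this ▸ inv_mem hx)) h₁
    rw [ha] at key
    exact h₁Z (mem_of_pow_mem key hh₁)

end Cfsg.Agent.Fg24.Sizes1mn
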