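import Cfsg.Agent.Fg24.Sizes1mn.Lemmas

/-!
# Groups with class sizes `1`, `m`, `m * n`: first facts
-/

set_option autoImplicit false

open Subgroup

namespace Cfsg.Agent.Fg24.Sizes1mn

variable {G : Type*} [Group G]

local notation "C[" x "]" => Subgroup.centralizer ({x} : Set G)

/-- The class size of an element. -/
noncomputable def ind (x : G) : ℕ := C[x].index

/-- The hypothesis on class sizes. -/
structure Sizes (G : Type*) [Group G] (m n : ℕ) : Prop where
  one_lt_m : 1 < m
  one_lt_n : 1 < n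
  coprime : m.Coprime n
  range : Set.range (fun x : G => (Subgroup.centralizer ({x} : Set G)).index)
    = ({1, m, m * n} : Set ℕ)

theorem mem_cent {x g : G} : g ∈ C[x] ↔ Commute g x := mem_centralizer_singleton_iff

theorem self_mem_cent (x : G) : x ∈ C[x] := mem_cent.2 (Commute.refl x)

theorem cent_symm {x g : G} (h : g ∈ C[x]) : x ∈ C[g] := mem_cent.2 (mem_cent.1 h).symm

theorem center_le_cent (x : G) : center G ≤ C[x] := fun _ hz =>
  mem_cent.2 (mem_center_iff.mp hz x).symm

theorem cent_le_of_mem_zpowers {x y : G} (hy : y ∈ zpowers x) : C[x] ≤ C[y] := by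
  obtain ⟨i, rfl⟩ := mem_zpowers_iff.mp hy
  exact fun g hg => mem_cent.2 ((mem_cent.1 hg).zpow_right i)

theorem ind_conj (g x : G) : ind (g * x * g⁻¹) = ind x := by
  have e : C[g * x * g⁻¹] = C[x].map (MulAut.conj g).toMonoidHom := by
    ext u
    constructor
    · intro hu
      refine ⟨g⁻¹ * u * g, ?_, by simp [mul_assoc]⟩
      have h : g * (g⁻¹ * u * g) * g⁻¹ ∈ C[g * x * g⁻¹] := by
        simpa [mul_assoc] using hu
      exact conj_mem_centralizer.mp h
    · rintro ⟨v, hv, rfl⟩
      exact conj_mem_centralizer.mpr hv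
  rw [ind, ind, e]
  exact index_map_equiv _ (MulAut.conj g)

variable {m n : ℕ} [Finite G]

theorem ind_eq_one {x : G} : ind x = 1 ↔ x ∈ center G := by
  rw [ind, index_eq_one, centralizer_eq_top_iff_subset]
  simp

theorem ind_dvd {x y : G} (h : C[x] ≤ C[y]) : ind y ∣ ind x := index_dvd_of_le h

theorem eq_of_ind {x y : G} (h : C[x] ≤ C[y]) (e : ind x = ind y) : C[x] = C[y] := by
  refine Subgroup.eq_of_le_of_card_ge h (le_of_eq ?_)
  have h1 := C[x].card_mul_index
  rw [← C[y].card_mul_index, show C[x].index = C[y].index from e] at h1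
  exact (Nat.eq_of_mul_eq_mul_right (Nat.pos_of_ne_zero index_ne_zero_of_finite) h1).symm

theorem pp_mul (p : ℕ) (H : Subgroup G) :
    pp p H * p ^ H.index.factorization p = pp p (⊤ : Subgroup G) := by
  rw [pp, pp, ← pow_add, Subgroup.card_top, ← H.card_mul_index,
    Nat.factorization_mul Nat.card_pos.ne' index_ne_zero_of_finite, Finsupp.add_apply]

theorem pp_eq_of_index {p : ℕ} [hp : Fact p.Prime] {H K : Subgroup G}
    (h : H.index.factorization p = K.index.factorization p) : pp p H = pp p K := by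
  have h1 := pp_mul p H
  rw [← pp_mul p K, h] at h1
  exact Nat.eq_of_mul_eq_mul_right (pow_pos hp.out.pos _) h1

theorem pp_eq_top {p : ℕ} [Fact p.Prime] {H : Subgroup G} (h : ¬ p ∣ H.index) :
    pp p H = pp p (⊤ : Subgroup G) := by
  refine pp_eq_of_index ?_
  rw [Nat.factorization_eq_zero_of_not_dvd h, Subgroup.index_top]
  simp

theorem pp_lt_top {p : ℕ} [hp : Fact p.Prime] {H : Subgroup G} (h : p ∣ H.index) :
    pp p H < pp p (⊤ : Subgroup G) := by
  rw [← pp_mul p H]
  refine lt_mul_of_one_lt_right (pp_pos H) (Nat.one_lt_pow ?_ hp.out.one_lt)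
  exact (hp.out.factorization_pos_of_dvd index_ne_zero_of_finite h).ne'

theorem not_dvd_index_of_pp {p : ℕ} [Fact p.Prime] {H : Subgroup G}
    (h : pp p (⊤ : Subgroup G) ≤ pp p H) : ¬ p ∣ H.index := fun hd =>
  absurd (pp_lt_top hd) (not_lt.mpr h)

theorem not_dvd_index_of_sylow {p : ℕ} [Fact p.Prime] (P : Sylow p G) {H : Subgroup G}
    (h : (P : Subgroup G) ≤ H) : ¬ p ∣ H.index := fun hd =>
  P.not_dvd_index (hd.trans (index_dvd_of_le h))

namespace Sizes

variable (S : Sizes G m n)
include S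

theorem cases (x : G) : ind x = 1 ∨ ind x = m ∨ ind x = m * n := by
  have h : ind x ∈ Set.range (fun x : G => C[x].index) := ⟨x, rfl⟩
  rw [S.range] at h
  simpa using h

theorem m_pos : 0 < m := lt_trans Nat.zero_lt_one S.one_lt_m

theorem m_lt_mn : m < m * n := lt_mul_of_one_lt_right S.m_pos S.one_lt_n

theorem mn_ne_one : m * n ≠ 1 := (lt_trans S.one_lt_m S.m_lt_mn).ne'

theorem exists_ind_m : ∃ x : G, ind x = m := by
  have h : m ∈ Set.range (fun x : G => C[x].index) := by rw [S.range]; simp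
  exact h

theorem exists_ind_mn : ∃ x : G, ind x = m * n := by
  have h : m * n ∈ Set.range (fun x : G => C[x].index) := by rw [S.range]; simp
  exact h

theorem cases' {x : G} (hx : x ∉ center G) : ind x = m ∨ ind x = m * n :=
  (S.cases x).resolve_left fun h => hx (ind_eq_one.mp h)

theorem not_center_of_ind {x : G} (h : ind x = m ∨ ind x = m * n) : x ∉ center G := by
  intro hx
  rcases h with h | h <;> rw [ind_eq_one.mpr hx] at h
  · exact S.one_lt_m.ne h
  · exact S.mn_ne_one h.symm

theorem m_dvd {x : G} (hx : x ∉ center G) : m ∣ ind x := by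
  rcases S.cases' hx with h | h <;> rw [h]
  exact dvd_mul_right m n

theorem ind_eq_m_of_le {x y : G} (hx : ind x = m) (hy : y ∉ center G) (h : C[x] ≤ C[y]) :
    ind y = m :=
  Nat.dvd_antisymm (hx ▸ ind_dvd h) (S.m_dvd hy)

theorem eq_of_le_m {x y : G} (hx : ind x = m) (hy : y ∉ center G) (h : C[x] ≤ C[y]) :
    C[x] = C[y] := eq_of_ind h (hx.trans (S.ind_eq_m_of_le hx hy h).symm)

theorem ind_le (x : G) : ind x ≤ m * n := by
  rcases S.cases x with h | h | h <;> rw [h]
  · exact (lt_trans S.one_lt_m S.m_lt_mn).le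
  · exact S.m_lt_mn.le

theorem eq_of_le_mn {x y : G} (hx : ind x = m * n) (h : C[y] ≤ C[x]) : C[y] = C[x] :=
  eq_of_ind h (le_antisymm (hx ▸ S.ind_le y)
    (Nat.le_of_dvd (Nat.pos_of_ne_zero index_ne_zero_of_finite) (ind_dvd h)))

/-- An element of maximal class size determines elements of coprime order commuting with it. -/
theorem le_of_mn {w z : G} (hw : ind w = m * n) (hz : z ∈ C[w])
    (hc : (orderOf w).Coprime (orderOf z)) : C[w] ≤ C[z] := by
  have h := ClassGraph.centralizer_mul_le (mem_cent.1 hz).symm hc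
  rw [← S.eq_of_le_mn hw (h.trans inf_le_left)]
  exact h.trans inf_le_right

theorem cent_mul {a b : G} (hab : Commute a b) (hc : (orderOf a).Coprime (orderOf b)) :
    C[a * b] = C[a] ⊓ C[b] :=
  le_antisymm (ClassGraph.centralizer_mul_le hab hc) fun _ hg =>
    mem_cent.2 ((mem_cent.1 hg.1).mul_right (mem_cent.1 hg.2))

/-- In the centraliser of an element of class size `m`, coprime elements have class size
`1` or `n`. -/
theorem step {x z : G} (hx : ind x = m) (hz : z ∈ C[x]) (hc : (orderOf x).Coprime (orderOf z))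
    (hzL : ¬ C[x] ≤ C[z]) :
    ind (x * z) = m * n ∧ C[x * z] = C[x] ⊓ C[z] ∧ (C[z]).relIndex C[x] = n := by
  have e := S.cent_mul (mem_cent.1 hz).symm hc
  have hne : x * z ∉ center G := by
    intro h
    apply hzL
    have h1 : C[x * z] = ⊤ := index_eq_one.mp (ind_eq_one.mpr h)
    rw [e] at h1
    exact (inf_eq_top_iff.mp h1).2 ▸ le_top
  have hmn : ind (x * z) = m * n := by
    refine (S.cases' hne).resolve_left fun h => hzL ?_
    have h1 := eq_of_ind (x := x * z) (y := x) (e ▸ inf_le_left) (h.trans hx.symm)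
    rw [← h1, e]
    exact inf_le_right
  refine ⟨hmn, e, ?_⟩
  have h2 := relIndex_mul_index (inf_le_left : C[x] ⊓ C[z] ≤ C[x])
  rw [inf_relIndex_left, ← e, show C[x * z].index = m * n from hmn,
    show C[x].index = m from hx, mul_comm m n] at h2
  exact Nat.eq_of_mul_eq_mul_right S.m_pos h2

theorem fact_ne {p q : ℕ} (hp : p.Prime) (hpm : p ∣ m) (hq : q ∣ n) : p ≠ q := fun e =>
  hp.ne_one (Nat.dvd_one.mp (S.coprime.gcd_eq_one ▸ Nat.dvd_gcd hpm (e ▸ hq)))

theorem fact_mn {p : ℕ} (hp : p.Prime) (hpm : p ∣ m) : (m * n).factorization p = m.factorization p := by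
  rw [Nat.factorization_mul S.m_pos.ne' (lt_trans Nat.zero_lt_one S.one_lt_n).ne',
    Finsupp.add_apply, Nat.factorization_eq_zero_of_not_dvd fun h => S.fact_ne hp hpm h rfl,
    add_zero]

/-- All non-central centralisers have the same `p`-part for `p ∣ m`. -/
theorem pp_eq {p : ℕ} [hp : Fact p.Prime] (hpm : p ∣ m) {g h : G} (hg : g ∉ center G)
    (hh : h ∉ center G) : pp p C[g] = pp p C[h] := by
  refine pp_eq_of_index ?_
  have key : ∀ g : G, g ∉ center G → C[g].index.factorization p = m.factorization p := by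
    intro g hg
    rcases S.cases' hg with e | e <;> rw [show C[g].index = _ from e]
    exact S.fact_mn hp.out hpm
  rw [key g hg, key h hh]

/-- Class size `m` centralisers contain a Sylow subgroup for a prime off `m`. -/
theorem pp_top {q : ℕ} [Fact q.Prime] (hqm : ¬ q ∣ m) {x : G} (hx : ind x = m) :
    pp q C[x] = pp q (⊤ : Subgroup G) :=
  pp_eq_top (show ¬ q ∣ C[x].index by rw [show C[x].index = m from hx]; exact hqm)

omit S in
theorem pp_ind {q : ℕ} [Fact q.Prime] {g h : G} (e : ind g = ind h) : pp q C[g] = pp q C[h] :=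
  pp_eq_of_index (by rw [show C[g].index = C[h].index from e])

theorem center_of_le {p : ℕ} [Fact p.Prime] (hpm : p ∣ m) (P : Sylow p G) {y : G}
    (h : (P : Subgroup G) ≤ C[y]) : y ∈ center G := by
  by_contra hy
  exact not_dvd_index_of_sylow P h (hpm.trans (S.m_dvd hy))

theorem sylow_not_le {r : ℕ} [Fact r.Prime] (hr : r ∣ m ∨ r ∣ n) (P : Sylow r G) :
    ¬ (P : Subgroup G) ≤ center G := by
  intro hP
  obtain ⟨x, hx⟩ := S.exists_ind_mn
  refine not_dvd_index_of_sylow P (hP.trans (center_le_cent x)) ?_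
  rw [show C[x].index = m * n from hx]
  rcases hr with h | h
  · exact dvd_mul_of_dvd_left h n
  · exact dvd_mul_of_dvd_right h m

theorem exists_pelt {r : ℕ} [Fact r.Prime] (hr : r ∣ m ∨ r ∣ n) :
    ∃ y : G, PElt r y ∧ y ∉ center G := by
  obtain ⟨P⟩ : Nonempty (Sylow r G) := inferInstance
  obtain ⟨y, hy, hyZ⟩ := SetLike.not_le_iff_exists.mp (S.sylow_not_le hr P)
  exact ⟨y, pelt_of_mem P.isPGroup' hy, hyZ⟩

/-- Every non-central centraliser has a non-central `p`-element for `p ∣ m`. -/
theorem exists_pelt_mem {p : ℕ} [Fact p.Prime] (hpm : p ∣ m) {g : G} (hg : g ∉ center G) :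
    ∃ y ∈ C[g], PElt p y ∧ y ∉ center G := by
  obtain ⟨y, hy, hyZ⟩ := S.exists_pelt (Or.inl hpm) (r := p)
  exact exists_outside (center_le_cent y) (S.pp_eq hpm hyZ hg).le (self_mem_cent y) hy hyZ
    fun z hz => (mem_center_iff.mp hz y)

theorem mem_center_of_other {r : ℕ} [Fact r.Prime] (hrm : ¬ r ∣ m) (hrn : ¬ r ∣ n) {z : G}
    (hz : PElt r z) : z ∈ center G := by
  obtain ⟨R, hR⟩ := (pelt_zpowers hz).exists_le_sylow
  have hnd : ∀ x : G, ¬ r ∣ C[x].index := by
    intro x
    rcases S.cases x with h | h | h <;> rw [show C[x].index = _ from h]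
    · exact (Fact.out : r.Prime).not_dvd_one
    · exact hrm
    · exact fun h' => ((Fact.out : r.Prime).dvd_mul.mp h').elim hrm hrn
  have h1 : (⊤ : Subgroup G) ≤ centralizer ((R : Subgroup G) : Set G) := by
    refine le_of_forall_conj_mem fun v _ => ?_
    obtain ⟨g, hg⟩ := ClassGraph.exists_conj_mem_centralizer R v (hnd v)
    exact ⟨g, mem_top g, hg⟩
  exact mem_center_iff.mpr fun g =>
    (mem_centralizer_iff.mp (h1 (mem_top g)) z (hR (mem_zpowers z))).symm

theorem prime_cases {r : ℕ} [Fact r.Prime] {z : G} (hz : PElt r z) (hzZ : z ∉ center G) :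
    r ∣ m ∨ r ∣ n := by
  by_contra h
  push Not at h
  exact hzZ (S.mem_center_of_other h.1 h.2 hz)

/-- A prime power element of class size `m`. -/
theorem exists_pelt_ind_m :
    ∃ r : ℕ, r.Prime ∧ (r ∣ m ∨ r ∣ n) ∧ ∃ x : G, PElt r x ∧ ind x = m := by
  obtain ⟨g, hg⟩ := S.exists_ind_m
  obtain ⟨r, hr, a, ha, har, haZ⟩ := exists_component_not_mem (S.not_center_of_ind (Or.inl hg))
  haveI := Fact.mk hr
  exact ⟨r, hr, S.prime_cases har haZ, a, har,
    S.ind_eq_m_of_le hg haZ (cent_le_of_mem_zpowers ha)⟩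

end Sizes

end Cfsg.Agent.Fg24.Sizes1mn
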