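import Cfsg.Agent.Fg24.Sizes1mn.Central

/-!
# The case of a `p`-element of class size `m`, `p ∣ m`
-/

set_option autoImplicit false

open Subgroup

namespace Cfsg.Agent.Fg24.Sizes1mn

variable {G : Type*} [Group G] [Finite G] {m n : ℕ}

local notation "C[" x "]" => Subgroup.centralizer ({x} : Set G)

/-- Elements of `C(x)` with equal maximal centralisers. -/
theorem Sizes.eq_pair (S : Sizes G m n) {x z z' : G} (hx : ind x = m)
    (hz : z ∈ C[x]) (hxz : (orderOf x).Coprime (orderOf z)) (hzL : ¬ C[x] ≤ C[z])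
    (hz' : z' ∈ C[x]) (hxz' : (orderOf x).Coprime (orderOf z')) (hz'L : ¬ C[x] ≤ C[z'])
    (hcomm : Commute z z') (hzz' : (orderOf z').Coprime (orderOf z)) :
    C[x * z'] = C[x * z] := by
  obtain ⟨h1, e1, -⟩ := S.step hx hz hxz hzL
  obtain ⟨h2, e2, -⟩ := S.step hx hz' hxz' hz'L
  have hmem : z ∈ C[x * z'] := e2.symm ▸ ⟨hz, mem_cent.2 hcomm⟩
  have hco : (orderOf (x * z')).Coprime (orderOf z) :=
    Nat.Coprime.coprime_dvd_left ((mem_cent.1 hz').symm.orderOf_mul_dvd_mul_orderOf)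
      (hxz.mul_left hzz')
  refine eq_of_ind ?_ (h2.trans h1.symm)
  rw [e1]
  exact le_inf (e2 ▸ inf_le_left) (S.le_of_mn h2 hmem hco)

variable (S : Sizes G m n) {x : G} {p : ℕ} [hp : Fact p.Prime] (hpm : p ∣ m) (hxp : PElt p x)
  (hx : ind x = m)
include S hpm hxp hx

theorem coprime_x {z : G} (hz : (orderOf z).Coprime p) : (orderOf x).Coprime (orderOf z) := by
  obtain ⟨k, hk⟩ := hxp
  exact (hz.symm.pow_left k).coprime_dvd_left hk

omit S hpm hx in
theorem x_mem_pelt {r : ℕ} [Fact r.Prime] (hr : r ≠ p) {z : G} (hz : PElt r z) :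
    (orderOf x).Coprime (orderOf z) := pelt_coprime hr.symm hxp hz

/-- Each prime of `n` has an element of `C(x)` non-central there. -/
theorem exists_noncentral_q {z : G} (hz : z ∈ C[x]) (hzp : (orderOf z).Coprime p)
    (hzL : ¬ C[x] ≤ C[z]) {q : ℕ} [hq : Fact q.Prime] (hqn : q ∣ n) :
    ∃ v ∈ C[x], PElt q v ∧ ¬ C[x] ≤ C[v] := by
  by_contra hcon
  push Not at hcon
  obtain ⟨T, hTL, hT, hTc⟩ := exists_full q C[x]
  obtain ⟨hmn, e, -⟩ := S.step hx hz (coprime_x S hpm hxp hx hzp) hzL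
  refine not_dvd_index_of_pp (H := C[x * z]) ?_ ?_ (p := q)
  · rw [← S.pp_top (fun hd => S.fact_ne hq.out hd hqn rfl) hx, ← hTc]
    refine card_le_pp hT ?_
    rw [e]
    exact le_inf hTL fun t ht => cent_symm (hcon t (hTL ht) (pelt_of_mem hT ht) hz)
  · rw [show C[x * z].index = m * n from hmn]
    exact dvd_mul_of_dvd_right hqn m

/-- The elements of order prime to `p` in the centre of `D`. -/
def bSet (p : ℕ) (D : Subgroup G) : Subgroup G where
  carrier := {g | g ∈ D ∧ (∀ d ∈ D, Commute d g) ∧ (orderOf g).Coprime p}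
  one_mem' := ⟨one_mem D, fun d _ => Commute.one_right d, by simp⟩
  mul_mem' := fun {a b} ha hb => ⟨mul_mem ha.1 hb.1, fun d hd => (ha.2.1 d hd).mul_right (hb.2.1 d hd),
    Nat.Coprime.coprime_dvd_left (Commute.orderOf_mul_dvd_mul_orderOf (hb.2.1 a ha.1))
      (ha.2.2.mul_left hb.2.2)⟩
  inv_mem' := fun {a} ha => ⟨inv_mem ha.1, fun d hd => (ha.2.1 d hd).inv_right,
    by rw [orderOf_inv]; exact ha.2.2⟩

/-- In `C(x)` only one prime divides `n`. -/
theorem prime_n_unique {z₀ : G} (hz₀ : z₀ ∈ C[x]) (hz₀p : (orderOf z₀).Coprime p)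
    (hz₀L : ¬ C[x] ≤ C[z₀]) {t t' : ℕ} [ht : Fact t.Prime] [ht' : Fact t'.Prime] (htn : t ∣ n)
    (ht'n : t' ∣ n) : t = t' := by
  by_contra hne
  have htp : t ≠ p := (S.fact_ne hp.out hpm htn).symm
  have ht'p : t' ≠ p := (S.fact_ne hp.out hpm ht'n).symm
  obtain ⟨z, hz, hzt, hzL⟩ := exists_noncentral_q S hpm hxp hx hz₀ hz₀p hz₀L htn (q := t)
  obtain ⟨z₁, hz₁, hz₁t, hz₁L⟩ := exists_noncentral_q S hpm hxp hx hz₀ hz₀p hz₀L ht'n (q := t')
  obtain ⟨hmn, eD, hrel⟩ := S.step hx hz (x_mem_pelt hxp htp hzt) hzL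
  obtain ⟨hmn₁, e₁, -⟩ := S.step hx hz₁ (x_mem_pelt hxp ht'p hz₁t) hz₁L
  set L := C[x] with hL
  set Z₀ := L ⊓ centralizer (L : Set G) with hZ₀
  have hZ₀iff : ∀ g ∈ L, (g ∈ Z₀ ↔ L ≤ C[g]) := by
    intro g hg
    constructor
    · exact fun h u hu => mem_cent.2 (mem_centralizer_iff.mp h.2 u hu)
    · exact fun h => ⟨hg, mem_centralizer_iff.mpr fun u hu => mem_cent.1 (h hu)⟩
  obtain ⟨z', hz'D, hz't, hz'Z⟩ := exists_outside (p := t') (Z₀ := Z₀) (D₁ := C[x * z₁])
    (D₂ := C[x * z])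
    (by rw [e₁]; exact le_inf inf_le_left fun g hg =>
      mem_cent.2 (mem_centralizer_iff.mp hg.2 z₁ hz₁).symm)
    (Sizes.pp_ind (hmn₁.trans hmn.symm)).le
    (by rw [e₁]; exact ⟨hz₁, self_mem_cent z₁⟩) hz₁t (fun h => hz₁L ((hZ₀iff z₁ hz₁).mp h))
    (fun y hy => mem_centralizer_iff.mp hy.2 z₁ hz₁)
  set D := C[x * z] with hD
  have hDL : D ≤ L := eD ▸ inf_le_left
  have hz'L : ¬ L ≤ C[z'] := fun h => hz'Z ((hZ₀iff z' (hDL hz'D)).mpr h)
  have hzz' : Commute z z' := by
    have : z' ∈ C[x] ⊓ C[z] := eD ▸ hz'D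
    exact (mem_cent.1 this.2).symm
  have hD' : C[x * z'] = D := S.eq_pair hx hz (x_mem_pelt hxp htp hzt) hzL (hDL hz'D)
    (x_mem_pelt hxp ht'p hz't) hz'L hzz' (pelt_coprime (Ne.symm hne) hz't hzt)
  have hcentral : ∀ g ∈ D, (orderOf g).Coprime p → g ∈ bSet p D := by
    intro g hgD hgp
    refine ⟨hgD, fun d hd => ?_, hgp⟩
    suffices h : D ≤ C[g] from mem_cent.1 (h hd)
    have key : zpowers g ≤ centralizer (D : Set G) := by
      refine TwoClassSizes.le_of_primePow_mem fun a ha r hr har => ?_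
      haveI := Fact.mk hr
      refine mem_centralizer_iff.mpr fun u hu => ?_
      have haD : a ∈ D := zpowers_le.mpr hgD ha
      have hap : (orderOf a).Coprime p :=
        hgp.coprime_dvd_left (orderOf_dvd_of_mem_zpowers ha)
      by_cases hrt : r = t
      · subst hrt
        have hco : (orderOf (x * z')).Coprime (orderOf a) :=
          Nat.Coprime.coprime_dvd_left ((mem_cent.1 (hDL hz'D)).symm.orderOf_mul_dvd_mul_orderOf)
            ((coprime_x S hpm hxp hx hap).mul_left (pelt_coprime (Ne.symm hne) hz't har))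
        obtain ⟨h', -, -⟩ := S.step hx (hDL hz'D) (x_mem_pelt hxp ht'p hz't) hz'L
        exact mem_cent.1 (S.le_of_mn h' (hD'.symm ▸ haD) hco (hD'.symm ▸ hu))
      · have hco : (orderOf (x * z)).Coprime (orderOf a) :=
          Nat.Coprime.coprime_dvd_left ((mem_cent.1 hz).symm.orderOf_mul_dvd_mul_orderOf)
            ((coprime_x S hpm hxp hx hap).mul_left (pelt_coprime (Ne.symm hrt) hzt har))
        exact mem_cent.1 (S.le_of_mn hmn haD hco hu)
    exact fun u hu => mem_cent.2 (mem_centralizer_iff.mp (key (mem_zpowers g)) u hu)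
  set B := bSet p D with hB
  set M := L ⊓ normalizer (D : Set G) with hM
  have hnorm : ∀ g ∈ M, ∀ d ∈ D, g * d * g⁻¹ ∈ D := fun g hg d hd =>
    (mem_normalizer_iff.mp hg.2 d).mp hd
  have hdat : ConjData M D B := by
    refine ⟨normal_of_conj hnorm, fun g hg b hb => ?_, fun d hd _ b hb => hb.2.1 d hd,
      fun a ha b hb => hb.2.1 a ha.1⟩
    refine hcentral _ (hnorm g hg b hb.1) ?_
    rw [orderOf_conj']
    exact hb.2.2
  have hmov : ∀ g ∈ M, g ∉ D → ∀ b ∈ B, Commute g b → b ∈ Z₀ := by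
    intro g hg hgD b hb hc
    by_contra hbZ
    have hbL : b ∈ L := hDL hb.1
    obtain ⟨hb1, hb2, -⟩ := S.step hx hbL (coprime_x S hpm hxp hx hb.2.2)
      fun h => hbZ ((hZ₀iff b hbL).mpr h)
    have e : D = C[x * b] := eq_of_ind (by
      rw [hb2]; exact le_inf hDL fun u hu => mem_cent.2 (hb.2.1 u hu)) (hmn.trans hb1.symm)
    exact hgD (e ▸ hb2.symm ▸ ⟨hg.1, mem_cent.2 hc⟩)
  have hfix : ∀ g ∈ M, ∀ w ∈ Z₀, w ∈ B → Commute g w := fun g hg w hw _ =>
    mem_centralizer_iff.mp hw.2 g hg.1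
  have hown : ∀ (u : ℕ) [Fact u.Prime], u ∣ n → u ≠ p → ∀ a ∈ D, PElt u a → ¬ L ≤ C[a] →
      u ∣ D.relIndex M := by
    intro u hu hun hup a haD hau haL
    obtain ⟨T₀, hT₀D, hT₀, hT₀c⟩ := exists_full u D
    obtain ⟨T, hT₀T, hTL, hT, hTc⟩ := exists_full_ge hT₀ (hT₀D.trans hDL)
    have hne' : T₀ ≠ T := by
      intro e
      refine not_dvd_index_of_pp (H := D) ?_ ?_ (p := u)
      · rw [← S.pp_top (fun hd => S.fact_ne hu.out hd hun rfl) hx, ← hTc, ← e, hT₀c]
      · rw [show D.index = m * n from hmn]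
        exact dvd_mul_of_dvd_right hun m
    obtain ⟨g, hgT, hgT₀, hgn⟩ := exists_normalizer_gt hT hT₀T hne'
    have hfullmem : ∀ b ∈ D, PElt u b → b ∈ T₀ := fun b hb hbu =>
      mem_full hT₀ hT₀D hT₀c hb hbu fun s hs => by
        have := (hcentral s (hT₀D hs) (pelt_coprime_prime hup (pelt_of_mem hT₀ hs))).2.1 b hb
        rw [this.eq, mul_inv_cancel_right]
        exact hs
    have haT₀ : a ∈ T₀ := hfullmem a haD hau
    have hgL : g ∈ L := hTL hgT
    have hga : g * a * g⁻¹ ∈ D := hT₀D (hgn a haT₀)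
    obtain ⟨h1, e1, -⟩ := S.step hx (hDL haD) (x_mem_pelt hxp hup hau) haL
    have eDa : D = C[x * a] := eq_of_ind (by
      rw [e1]; exact le_inf hDL fun d hd => mem_cent.2
        ((hcentral a haD (pelt_coprime_prime hup hau)).2.1 d hd)) (hmn.trans h1.symm)
    have hgx : g * x * g⁻¹ = x := by
      rw [(mem_cent.1 hgL).eq, mul_inv_cancel_right]
    have haL' : ¬ L ≤ C[g * a * g⁻¹] := by
      intro h
      apply haL
      intro v hv
      have h' : g * v * g⁻¹ ∈ L := mul_mem (mul_mem hgL hv) (inv_mem hgL)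
      exact conj_mem_centralizer.mp (h h')
    obtain ⟨h2, e2, -⟩ := S.step hx (hDL hga)
      (x_mem_pelt hxp hup (pelt_conj g hau)) haL'
    have eDa' : D = C[x * (g * a * g⁻¹)] := eq_of_ind (by
      rw [e2]; exact le_inf hDL fun d hd => mem_cent.2
        ((hcentral _ hga (pelt_coprime_prime hup (pelt_conj g hau))).2.1 d hd)) (hmn.trans h2.symm)
    have hconj : g * (x * a) * g⁻¹ = x * (g * a * g⁻¹) := by
      calc g * (x * a) * g⁻¹ = g * x * g⁻¹ * (g * a * g⁻¹) := by group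
        _ = x * (g * a * g⁻¹) := by rw [hgx]
    have hgN : g ∈ normalizer (D : Set G) := by
      refine mem_normalizer_iff.mpr fun v => ?_
      show v ∈ D ↔ g * v * g⁻¹ ∈ D
      conv_lhs => rw [eDa]
      conv_rhs => rw [eDa', ← hconj]
      exact conj_mem_centralizer.symm
    exact dvd_relIndex hnorm ⟨hgL, hgN⟩ (pelt_of_mem hT hgT)
      fun h => hgT₀ (hfullmem g h (pelt_of_mem hT hgT))
  have hzD : z ∈ D := eD.symm ▸ ⟨hz, self_mem_cent z⟩
  have hzB := hcentral z hzD (pelt_coprime_prime htp hzt)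
  have hz'B := hcentral z' hz'D (pelt_coprime_prime ht'p hz't)
  have h1 := hown t htn htp z hzD hzt hzL
  have h2 := hown t' ht'n ht'p z' hz'D hz't hz'L
  rw [relIndex_eq_of_two hdat hfix hmov hzB (fun h => hzL ((hZ₀iff z hz).mp h)) hzt hz'B hz'Z
    (pelt_coprime_prime (Ne.symm hne) hz't) h1] at h2
  exact hne ((Nat.prime_dvd_prime_iff_eq ht'.out ht.out).mp h2).symm

/-- The main result of this case. -/
theorem centralParts_of_pelt : CentralParts S x := by
  set L := C[x] with hL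
  refine ⟨hx, ?_⟩
  have hZother : ∀ (r : ℕ) [Fact r.Prime], ¬ r ∣ m → ¬ r ∣ n → ∀ g : G, PElt r g → L ≤ C[g] :=
    fun r hr h1 h2 g hg _ _ => mem_cent.2 (mem_center_iff.mp (S.mem_center_of_other h1 h2 hg) _)
  obtain ⟨q, hq, hqn⟩ := Nat.exists_prime_and_dvd S.one_lt_n.ne'
  haveI := Fact.mk hq
  have hqp : q ≠ p := (S.fact_ne hp.out hpm hqn).symm
  have hqm : ¬ q ∣ m := fun hd => S.fact_ne hq hd hqn rfl
  obtain ⟨T, hTL, hT, hTc⟩ := exists_full q L
  have hTtop : Nat.card T = pp q (⊤ : Subgroup G) := hTc.trans (S.pp_top hqm hx)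
  have hnotmn : ∀ g : G, ind g = m * n → ¬ T ≤ C[g] := by
    intro g hg hle
    refine not_dvd_index_of_pp (H := C[g]) (hTtop ▸ card_le_pp hT hle) ?_ (p := q)
    rw [show C[g].index = m * n from hg]
    exact dvd_mul_of_dvd_right hqn m
  by_cases hall : ∀ z ∈ L, (orderOf z).Coprime p → L ≤ C[z]
  · intro s hs hsm y hy hys
    haveI := Fact.mk hs
    by_cases hsp : s = p
    · subst hsp
      by_contra hyL
      -- use a non-central `q`-element
      obtain ⟨y₀, hy₀, hy₀Z⟩ := S.exists_pelt (Or.inr hqn) (r := q)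
      obtain ⟨v, hv, hvq, hvZ⟩ := exists_outside (center_le_cent y₀)
        (by rw [S.pp_top hqm hx]; exact pp_le_top _) (self_mem_cent y₀) hy₀ hy₀Z
        fun z hz => mem_center_iff.mp hz y₀
      have hvL : C[v] = L :=
        (S.eq_of_le_m hx hvZ (hall v hv (pelt_coprime_prime hqp hvq))).symm
      have hvm : ind v = m := by rw [ind, hvL]; exact hx
      obtain ⟨h1, e1, -⟩ := S.step hvm (hvL.symm ▸ hy) (pelt_coprime hqp hvq hys) (hvL.symm ▸ hyL)
      refine hnotmn _ h1 ?_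
      rw [e1, hvL]
      exact le_inf hTL fun t ht => cent_symm
        (hall t (hTL ht) (pelt_coprime_prime hqp (pelt_of_mem hT ht)) hy)
    · exact hall y hy (pelt_coprime_prime hsp hys)
  push Not at hall
  obtain ⟨z₀, hz₀, hz₀p, hz₀L⟩ := hall
  have huniq : ∀ (r : ℕ) [Fact r.Prime], r ∣ n → r = q := fun r hr hrn =>
    prime_n_unique S hpm hxp hx hz₀ hz₀p hz₀L hrn hqn
  have hrelT : ¬ q ∣ T.relIndex L := by
    intro hd
    refine not_dvd_index_of_pp (H := T) ?_ (hd.trans ⟨L.index, (relIndex_mul_index hTL).symm⟩)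
    rw [← hTtop]
    exact card_le_pp hT le_rfl
  -- a full subgroup meets every `C(x v)`
  have hcentre_s : ∀ (s : ℕ) [Fact s.Prime], s ∣ m → s ≠ p → ∀ z ∈ L, PElt s z → L ≤ C[z] := by
    intro s hs hsm hsp z hz hzs
    by_contra hzL
    obtain ⟨hmn, e, hrel⟩ := S.step hx hz (x_mem_pelt hxp hsp hzs) hzL
    have hsq : s ≠ q := S.fact_ne hs.out hsm hqn
    set D := C[x * z] with hD
    have hTD : T ≤ D := by
      refine le_trans (le_of_forall_conj_mem (D := D) fun v hv => ?_) le_rfl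
      by_cases hvL : L ≤ C[v]
      · exact ⟨1, one_mem T, by
          simpa using (e.symm ▸ (⟨hTL hv, cent_symm (hvL hz)⟩ : v ∈ C[x] ⊓ C[z]) : v ∈ D)⟩
      obtain ⟨hv1, ev, -⟩ := S.step hx (hTL hv) (x_mem_pelt hxp hqp (pelt_of_mem hT hv)) hvL
      obtain ⟨U, hUv, hU, hUc⟩ := exists_full s C[x * v]
      have hUc' : Nat.card U = pp s L := hUc.trans
        (S.pp_eq hsm (S.not_center_of_ind (Or.inr hv1)) (S.not_center_of_ind (Or.inl hx)))
      obtain ⟨c, hc, hcU⟩ := exists_conj hU (hUv.trans (ev ▸ inf_le_left)) hUc'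
        (pelt_zpowers hzs) (zpowers_le.mpr hz)
      have hz' : c * z * c⁻¹ ∈ C[x * v] := hUv (hcU z (mem_zpowers z))
      have hco : (orderOf (x * v)).Coprime (orderOf (c * z * c⁻¹)) :=
        Nat.Coprime.coprime_dvd_left ((mem_cent.1 (hTL hv)).symm.orderOf_mul_dvd_mul_orderOf)
          ((x_mem_pelt hxp hsp (pelt_conj c hzs)).mul_left
            (pelt_coprime hsq.symm (pelt_of_mem hT hv) (pelt_conj c hzs)))
      have hle := S.le_of_mn hv1 hz' hco
      have hvmem : c⁻¹ * v * c ∈ D := by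
        rw [e]
        refine mem_inf.mpr ⟨mul_mem (mul_mem (inv_mem hc) (hTL hv)) hc, ?_⟩
        have h1 : v ∈ C[c * z * c⁻¹] := hle (ev.symm ▸ ⟨hTL hv, self_mem_cent v⟩)
        exact (conj_mem_centralizer (g := c)).mp (by simpa [mul_assoc] using h1)
      obtain ⟨t, ht, d, hd, hctd⟩ := exists_mul hTL (e ▸ inf_le_left : D ≤ L) (g := c) (by
        have e2 : D.relIndex L = n := by rw [e, inf_relIndex_left]; exact hrel
        rw [e2]
        refine Nat.coprime_of_dvd fun r hr hr1 hr2 => ?_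
        haveI := Fact.mk hr
        exact hrelT (huniq r hr2 ▸ hr1)) hc
      refine ⟨t⁻¹, inv_mem ht, ?_⟩
      have : t⁻¹ * v * t⁻¹⁻¹ = d * (c⁻¹ * v * c) * d⁻¹ := by rw [hctd]; group
      rw [this]
      exact mul_mem (mul_mem hd hvmem) (inv_mem hd)
    exact hnotmn _ hmn hTD
  intro s hs hsm y hy hys
  haveI := Fact.mk hs
  by_cases hsp : s = p
  swap
  · exact hcentre_s s hsm hsp y hy hys
  subst hsp
  obtain ⟨A, hAL, hA, hAc⟩ := exists_full s L
  set D := L ⊓ normalizer (A : Set G) with hDdef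
  have hTA : T ≤ L ⊓ centralizer (A : Set G) := by
    refine le_of_forall_conj_mem fun v hv => ?_
    obtain ⟨g, hgZ, hgL, hgv⟩ : ∃ g : G, g ∉ center G ∧ C[g] ≤ L ∧ C[g] ≤ C[v] := by
      by_cases hvL : L ≤ C[v]
      · exact ⟨x, S.not_center_of_ind (Or.inl hx), le_rfl, hvL⟩
      · obtain ⟨hv1, ev, -⟩ := S.step hx (hTL hv) (x_mem_pelt hxp hqp (pelt_of_mem hT hv)) hvL
        exact ⟨x * v, S.not_center_of_ind (Or.inr hv1), ev ▸ inf_le_left, ev ▸ inf_le_right⟩
    obtain ⟨U, hUg, hU, hUc⟩ := exists_full s C[g]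
    have hUc' : Nat.card U = pp s L :=
      hUc.trans (S.pp_eq hsm hgZ (S.not_center_of_ind (Or.inl hx)))
    obtain ⟨c, hc, hcU⟩ := exists_conj hU (hUg.trans hgL) hUc' hA hAL
    have hcA : c⁻¹ * v * c ∈ L ⊓ centralizer (A : Set G) := by
      refine mem_inf.mpr ⟨mul_mem (mul_mem (inv_mem hc) (hTL hv)) hc, mem_centralizer_iff.mpr fun a ha => ?_⟩
      have h1 : c * a * c⁻¹ ∈ C[v] := hgv (hUg (hcU a ha))
      have h2 : a ∈ C[c⁻¹ * v * c] := by
        refine (conj_mem_centralizer (g := c)).mp ?_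
        simpa [mul_assoc] using h1
      exact mem_cent.1 h2
    obtain ⟨t, ht, d, hd, hctd⟩ := exists_mul hTL (inf_le_left : D ≤ L) (g := c) (by
      refine Nat.coprime_of_dvd fun r hr hr1 hr2 => ?_
      haveI := Fact.mk hr
      refine hrelT ?_
      suffices r = q from this ▸ hr1
      by_contra hrq
      obtain ⟨R, hRL, hR, hRc⟩ := exists_full r L
      have hRD : pp r L ≤ pp r D := by
        by_cases hrp : r = s
        · subst hrp
          rw [← hAc]
          exact card_le_pp hA (le_inf hAL le_normalizer)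
        · rw [← hRc]
          refine card_le_pp hR (le_inf hRL ?_)
          refine le_trans (fun g hg => mem_centralizer_iff.mpr fun a ha => ?_)
            (centralizer_le_normalizer _)
          have hgL' : L ≤ C[g] := by
            by_cases hrm : r ∣ m
            · exact hcentre_s r hrm hrp g (hRL hg) (pelt_of_mem hR hg)
            · exact hZother r hrm (fun h => hrq (huniq r h)) g (pelt_of_mem hR hg)
          exact mem_cent.1 (hgL' (hAL ha))
      have e1 := card_mul_relIndex (inf_le_left : D ≤ L)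
      obtain ⟨k, hk⟩ := hr2
      have h3 : r * pp r D ∣ Nat.card L := by
        rw [← e1, hk]
        exact ⟨Nat.card D / pp r D * k, by
          obtain ⟨j, hj⟩ := pp_dvd r D
          rw [hj, Nat.mul_div_cancel_left _ (pp_pos D)]
          ring⟩
      obtain ⟨i, hi⟩ : ∃ i, pp r D = r ^ i := ⟨_, rfl⟩
      have h4 : r * pp r D ∣ pp r L := by
        rw [hi, ← pow_succ'] at h3 ⊢
        exact (Nat.Prime.pow_dvd_iff_dvd_ordProj hr Nat.card_pos.ne').1 h3
      have h5 := Nat.le_of_dvd (pp_pos L) h4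
      have h6 : pp r D < r * pp r D := lt_mul_of_one_lt_left (pp_pos D) hr.one_lt
      omega) hc
    refine ⟨t⁻¹, inv_mem ht, ?_⟩
    have e : t⁻¹ * v * t⁻¹⁻¹ = d * (c⁻¹ * v * c) * d⁻¹ := by rw [hctd]; group
    rw [e]
    refine mem_inf.mpr ⟨mul_mem (mul_mem hd.1 hcA.1) (inv_mem hd.1), mem_centralizer_iff.mpr fun a ha => ?_⟩
    have ha' : d⁻¹ * a * d ∈ A := by
      simpa using (mem_normalizer_iff.mp (inv_mem hd.2) a).mp ha
    calc a * (d * (c⁻¹ * v * c) * d⁻¹) = d * (d⁻¹ * a * d * (c⁻¹ * v * c)) * d⁻¹ := by group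
      _ = d * (c⁻¹ * v * c * (d⁻¹ * a * d)) * d⁻¹ := by rw [mem_centralizer_iff.mp hcA.2 _ ha']
      _ = d * (c⁻¹ * v * c) * d⁻¹ * a := by group
  -- `A` is normal in `L`
  have hAn : L ≤ normalizer (A : Set G) := by
    have hD1 : D.relIndex L = 1 := by
      by_contra hne
      obtain ⟨r, hr, hrd⟩ := Nat.exists_prime_and_dvd hne
      haveI := Fact.mk hr
      obtain ⟨R, hRL, hR, hRc⟩ := exists_full r L
      have hRD : pp r L ≤ pp r D := by
        by_cases hrp : r = s
        · subst hrp; rw [← hAc]; exact card_le_pp hA (le_inf hAL le_normalizer)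
        · by_cases hrq : r = q
          · subst hrq
            rw [← hTc]
            exact card_le_pp hT (le_inf hTL
              ((hTA.trans inf_le_right).trans (centralizer_le_normalizer _)))
          rw [← hRc]
          refine card_le_pp hR (le_inf hRL ?_)
          refine le_trans (fun g hg => mem_centralizer_iff.mpr fun a ha => ?_)
            (centralizer_le_normalizer _)
          have hgL' : L ≤ C[g] := by
            by_cases hrm : r ∣ m
            · exact hcentre_s r hrm hrp g (hRL hg) (pelt_of_mem hR hg)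
            · exact hZother r hrm (fun h => hrq (huniq r h)) g (pelt_of_mem hR hg)
          exact mem_cent.1 (hgL' (hAL ha))
      have e1 := card_mul_relIndex (inf_le_left : D ≤ L)
      obtain ⟨i, hi⟩ : ∃ i, pp r D = r ^ i := ⟨_, rfl⟩
      have h3 : r * pp r D ∣ Nat.card L := by
        rw [← e1, mul_comm r]
        exact Nat.mul_dvd_mul (pp_dvd r D) hrd
      have h4 : r * pp r D ∣ pp r L := by
        rw [hi, ← pow_succ'] at h3 ⊢
        exact (Nat.Prime.pow_dvd_iff_dvd_ordProj hr Nat.card_pos.ne').1 h3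
      have h5 := Nat.le_of_dvd (pp_pos L) h4
      have h6 : pp r D < r * pp r D := lt_mul_of_one_lt_left (pp_pos D) hr.one_lt
      omega
    exact (relIndex_eq_one.mp hD1).trans inf_le_right
  have hqA : ∀ u ∈ L, PElt q u → ∀ a ∈ A, Commute a u := by
    intro u hu huq a ha
    obtain ⟨c, hc, hcT⟩ := exists_conj hT hTL hTc (pelt_zpowers huq) (zpowers_le.mpr hu)
    have h1 := mem_centralizer_iff.mp (hTA (hcT u (mem_zpowers u))).2 _
      ((mem_normalizer_iff.mp (hAn hc) a).mp ha)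
    show a * u = u * a
    have h2 : c * (a * u) * c⁻¹ = c * (u * a) * c⁻¹ := by
      calc c * (a * u) * c⁻¹ = c * a * c⁻¹ * (c * u * c⁻¹) := by group
        _ = c * u * c⁻¹ * (c * a * c⁻¹) := h1
        _ = c * (u * a) * c⁻¹ := by group
    exact mul_left_cancel (mul_right_cancel h2)
  have hyA : y ∈ A := mem_full_of_normal hA hAL hAc hAn hy hys
  have hTA' : ∀ t ∈ T, ∀ a ∈ A, Commute a t := fun t ht a ha =>
    hqA t (hTL ht) (pelt_of_mem hT ht) a ha
  have hyA' : ∀ a ∈ A, Commute a y := by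
    intro a ha
    obtain ⟨v₀, hv₀T, hv₀Z⟩ : ∃ v ∈ T, v ∉ center G := by
      obtain ⟨y₀, hy₀, hy₀Z⟩ := S.exists_pelt (Or.inr hqn) (r := q)
      obtain ⟨c, -, hc⟩ := exists_conj hT (le_top (a := T)) hTtop (pelt_zpowers hy₀) le_top
      refine ⟨_, hc y₀ (mem_zpowers y₀), fun hz => hy₀Z ?_⟩
      have := (inferInstance : (center G).Normal).conj_mem _ hz c⁻¹
      simpa [mul_assoc] using this
    rcases S.cases' hv₀Z with hm1 | hmn
    swap
    · have hyv : y ∈ C[v₀] := mem_cent.2 (hTA' v₀ hv₀T y hyA)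
      exact mem_cent.1 (S.le_of_mn hmn hyv (pelt_coprime hqp (pelt_of_mem hT hv₀T) hys)
        (mem_cent.2 (hTA' v₀ hv₀T a ha)))
    · obtain ⟨Q', hQ'v, hQ', hQ'c⟩ := exists_full q C[v₀]
      have hv₀Q : v₀ ∈ Q' := mem_full hQ' hQ'v hQ'c (self_mem_cent v₀)
        (pelt_of_mem hT hv₀T) fun t ht => by
          rw [← (mem_cent.1 (hQ'v ht)).eq, mul_inv_cancel_right]; exact ht
      obtain ⟨c, -, hc⟩ := exists_conj hT (le_top (a := T)) hTtop hQ' le_top
      have hcQ : ∀ t ∈ T, c⁻¹ * t * c ∈ Q' := by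
        have hmap : Q'.map (MulAut.conj c).toMonoidHom = T := by
          refine Subgroup.eq_of_le_of_card_ge (by rintro _ ⟨t, ht, rfl⟩; exact hc t ht) ?_
          rw [card_map_of_injective (MulEquiv.injective _), hTtop, hQ'c, S.pp_top hqm hm1]
        intro t ht
        rw [← hmap] at ht
        obtain ⟨t', ht', rfl⟩ := ht
        simpa [mul_assoc] using ht'
      set v := c * v₀ * c⁻¹ with hvdef
      have hvT : v ∈ T := hc v₀ hv₀Q
      have hvm : ind v = m := by rw [hvdef, ind_conj]; exact hm1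
      have hvZ : v ∉ center G := S.not_center_of_ind (Or.inl hvm)
      have hTv : T ≤ C[v] := by
        intro t ht
        have h1 := (conj_mem_centralizer (g := c)).mpr (hQ'v (hcQ t ht))
        rw [hvdef]
        simpa [mul_assoc] using h1
      have hvL : L ≤ C[v] := by
        by_contra hvL
        obtain ⟨h1, e1, -⟩ := S.step hx (hTL hvT) (x_mem_pelt hxp hqp (pelt_of_mem hT hvT)) hvL
        exact hnotmn _ h1 (e1.symm ▸ le_inf hTL hTv)
      have hvL' : C[v] = L := (S.eq_of_le_m hx hvZ hvL).symm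
      by_contra hnc
      obtain ⟨h1, e1, -⟩ := S.step hvm (hvL'.symm ▸ hy) (pelt_coprime hqp (pelt_of_mem hT hvT) hys)
        fun h => hnc (mem_cent.1 (h (hvL'.symm ▸ hAL ha)))
      refine hnotmn _ h1 ?_
      rw [e1, hvL']
      exact le_inf hTL fun t ht => mem_cent.2 (hTA' t ht y hyA).symm
  intro u hu
  suffices h : zpowers u ≤ C[y] from h (mem_zpowers u)
  refine TwoClassSizes.le_of_primePow_mem fun a ha r hr har => mem_cent.2 ?_
  haveI := Fact.mk hr
  have haL : a ∈ L := zpowers_le.mpr hu ha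
  by_cases hrp : r = s
  · subst hrp
    exact hyA' a (mem_full_of_normal hA hAL hAc hAn haL har)
  by_cases hrq : r = q
  · subst hrq
    exact (hqA a haL har y hyA).symm
  by_cases hrm : r ∣ m
  · exact (mem_cent.1 (hcentre_s r hrm hrp a haL har hy)).symm
  · exact (mem_cent.1 (hZother r hrm (fun h => hrq (huniq r h)) a har hy)).symm

end Cfsg.Agent.Fg24.Sizes1mn
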