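import Cfsg.Agent.Fg24.Sizes1mn.CaseP

/-!
# No `p`-element of class size `m`: reduction to two primes
-/

set_option autoImplicit false

open Subgroup

namespace Cfsg.Agent.Fg24.Sizes1mn

variable {G : Type*} [Group G] [Finite G] {m n : ℕ}

local notation "C[" x "]" => Subgroup.centralizer ({x} : Set G)

/-- The relative index has no prime dividing it beyond the full part. -/
theorem not_dvd_relIndex {r : ℕ} [hr : Fact r.Prime] {D L : Subgroup G} (hle : D ≤ L)
    (h : pp r L ≤ pp r D) : ¬ r ∣ D.relIndex L := by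
  intro hd
  obtain ⟨i, hi⟩ : ∃ i, pp r D = r ^ i := ⟨_, rfl⟩
  have h3 : r * pp r D ∣ Nat.card L := by
    rw [← card_mul_relIndex hle, mul_comm r]
    exact Nat.mul_dvd_mul (pp_dvd r D) hd
  have h4 : r * pp r D ∣ pp r L := by
    rw [hi, ← pow_succ'] at h3 ⊢
    exact (Nat.Prime.pow_dvd_iff_dvd_ordProj hr.out Nat.card_pos.ne').1 h3
  have h5 := Nat.le_of_dvd (pp_pos L) h4
  have h6 : pp r D < r * pp r D := lt_mul_of_one_lt_left (pp_pos D) hr.out.one_lt
  omega

/-- No element of `p`-power order has class size `m`, for `p ∣ m`. -/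
def NoP (G : Type*) [Group G] (m n : ℕ) : Prop :=
  ∀ p : ℕ, p.Prime → p ∣ m → ∀ y : G, PElt p y → y ∉ Subgroup.center G → ind y = m * n

/-- The elements of order prime to `r` in an abelian subgroup `D`. -/
def coprimePart (r : ℕ) (D : Subgroup G) (hD : ∀ a ∈ D, ∀ b ∈ D, Commute a b) : Subgroup G where
  carrier := {g | g ∈ D ∧ (orderOf g).Coprime r}
  one_mem' := ⟨one_mem D, by simp⟩
  mul_mem' := fun {a b} ha hb => ⟨mul_mem ha.1 hb.1, Nat.Coprime.coprime_dvd_left
    (Commute.orderOf_mul_dvd_mul_orderOf (hD a ha.1 b hb.1)) (ha.2.mul_left hb.2)⟩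
  inv_mem' := fun {a} ha => ⟨inv_mem ha.1, by rw [orderOf_inv]; exact ha.2⟩

/-- The elements of `r`-power order in a subgroup where they commute. -/
def primePart (r : ℕ) [Fact r.Prime] (D : Subgroup G)
    (hD : ∀ a ∈ D, ∀ b ∈ D, PElt r a → PElt r b → Commute a b) : Subgroup G where
  carrier := {g | g ∈ D ∧ PElt r g}
  one_mem' := ⟨one_mem D, pelt_one r⟩
  mul_mem' := fun {a b} ha hb => ⟨mul_mem ha.1 hb.1, pelt_mul (hD a ha.1 b hb.1 ha.2 hb.2) ha.2 hb.2⟩
  inv_mem' := fun {a} ha => ⟨inv_mem ha.1, pelt_inv ha.2⟩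

variable (S : Sizes G m n) (hno : NoP G m n)
include S hno

omit hno in
/-- Elements prime to `p` are central in the centraliser of a `p`-element of maximal class size. -/
theorem central_coprime {p : ℕ} [hp : Fact p.Prime] {y g : G} (hy : ind y = m * n) (hyp : PElt p y)
    (hg : g ∈ C[y]) (hgp : (orderOf g).Coprime p) : C[y] ≤ C[g] := by
  obtain ⟨k, hk⟩ := hyp
  exact S.le_of_mn hy hg ((hgp.symm.pow_left k).coprime_dvd_left hk)

omit hno in
/-- Two elements of coprime prime-power orders making a centraliser abelian. -/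
theorem abelian_of_pair {D : Subgroup G} {p : ℕ} [Fact p.Prime]
    (h1 : ∀ g ∈ D, (orderOf g).Coprime p → D ≤ C[g]) (h2 : ∀ g ∈ D, PElt p g → D ≤ C[g]) :
    ∀ a ∈ D, ∀ b ∈ D, Commute a b := by
  intro a ha b hb
  obtain ⟨c, d, e, -, hc, hd, hcp, hdp⟩ := exists_parts p b
  rw [e]
  exact (mem_cent.1 (h2 c (zpowers_le.mpr hb hc) hcp ha)).mul_right
    (mem_cent.1 (h1 d (zpowers_le.mpr hb hd) hdp ha))

omit hno in
theorem dvd_relIndex_normalizer {p : ℕ} [hp : Fact p.Prime] {y : G} (hy : ind y = m * n)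
    (hyp : PElt p y) (hpmn : p ∣ m * n) (hyD : ∀ g ∈ C[y], PElt p g → ∀ a ∈ C[y], Commute a g)
    (hsame : ∀ g ∈ C[y], PElt p g → g ∉ center G → C[g] = C[y]) :
    p ∣ (C[y]).relIndex (normalizer (C[y] : Set G)) := by
  set D := C[y] with hD
  obtain ⟨T₀, hT₀D, hT₀, hT₀c⟩ := exists_full p D
  obtain ⟨P, hP⟩ := hT₀.exists_le_sylow
  have hne : T₀ ≠ (P : Subgroup G) := fun e =>
    not_dvd_index_of_sylow P (e ▸ hT₀D) (hpmn.trans (dvd_of_eq hy.symm))
  obtain ⟨g, hgP, hgT, hgn⟩ := exists_normalizer_gt P.isPGroup' hP hne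
  have hmem : ∀ b ∈ D, PElt p b → b ∈ T₀ := fun b hb hbp =>
    mem_full hT₀ hT₀D hT₀c hb hbp fun s hs => by
      rw [← (hyD b hb hbp s (hT₀D hs)).eq, mul_inv_cancel_right]; exact hs
  have hyZ : y ∉ center G := S.not_center_of_ind (Or.inr hy)
  have hyT : y ∈ T₀ := hmem y (self_mem_cent y) hyp
  have e := hsame _ (hT₀D (hgn y hyT)) (pelt_conj g hyp) fun hz => hyZ (by
    have := (inferInstance : (center G).Normal).conj_mem _ hz g⁻¹
    simpa [mul_assoc] using this)
  refine dvd_relIndex (fun a ha d hd => (mem_normalizer_iff.mp ha d).mp hd) (g := g) ?_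
    (pelt_of_mem P.isPGroup' hgP) fun h => hgT (hmem g h (pelt_of_mem P.isPGroup' hgP))
  refine mem_normalizer_iff.mpr fun u => ?_
  show u ∈ D ↔ g * u * g⁻¹ ∈ D
  conv_rhs => rw [← e]
  exact conj_mem_centralizer.symm

/-- Only one prime divides `m`. -/
theorem prime_m_unique {p s : ℕ} [hp : Fact p.Prime] [hs : Fact s.Prime] (hpm : p ∣ m)
    (hsm : s ∣ m) : p = s := by
  by_contra hne
  obtain ⟨y, hyp, hyZ⟩ := S.exists_pelt (Or.inl hpm) (r := p)
  have hy := hno p hp.out hpm y hyp hyZ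
  obtain ⟨z, hz, hzs, hzZ⟩ := S.exists_pelt_mem hsm hyZ
  have hzmn := hno s hs.out hsm z hzs hzZ
  set D := C[y] with hD
  have hCz : C[z] = D := (eq_of_ind
    (S.le_of_mn hy hz (pelt_coprime hne hyp hzs)) (hy.trans hzmn.symm)).symm
  have h1 : ∀ g ∈ D, (orderOf g).Coprime p → D ≤ C[g] := fun g hg hgp =>
    central_coprime S hy hyp hg hgp
  have h2 : ∀ g ∈ D, PElt p g → D ≤ C[g] := fun g hg hgp =>
    hCz ▸ central_coprime S hzmn hzs (hCz.symm ▸ hg) (pelt_coprime_prime hne hgp)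
  have hab := abelian_of_pair S h1 h2
  have hsame : ∀ r : ℕ, r.Prime → r ∣ m → ∀ g ∈ D, PElt r g → g ∉ center G → C[g] = D :=
    fun r hr hrm g hg hgr hgZ => (eq_of_ind (x := y) (y := g)
      (fun u hu => mem_cent.2 (hab u hu g hg)) (hy.trans (hno r hr hrm g hgr hgZ).symm)).symm
  set B := coprimePart n D hab with hB
  set M := normalizer (D : Set G) with hM
  have hnorm : ∀ g ∈ M, ∀ d ∈ D, g * d * g⁻¹ ∈ D := fun g hg d hd =>
    (mem_normalizer_iff.mp hg d).mp hd
  have hdat : ConjData M D B := ⟨normal_of_conj hnorm,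
    fun g hg b hb => ⟨hnorm g hg b hb.1, by rw [orderOf_conj']; exact hb.2⟩,
    fun d hd _ b hb => hab d hd b hb.1, fun a ha b hb => hab a ha.1 b hb.1⟩
  have hmov : ∀ g ∈ M, g ∉ D → ∀ b ∈ B, Commute g b → b ∈ center G := by
    intro g _ hgD b hb hc
    by_contra hbZ
    obtain ⟨r, hr, a, ha, har, haZ⟩ := exists_component_not_mem hbZ
    haveI := Fact.mk hr
    have hrm : r ∣ m := by
      refine (S.prime_cases har haZ).resolve_right fun hrn => haZ ?_
      have h3 : (orderOf a).Coprime n := hb.2.coprime_dvd_left (orderOf_dvd_of_mem_zpowers ha)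
      rw [pelt_eq_one_of_coprime har (h3.coprime_dvd_right hrn)]
      exact one_mem _
    exact hgD ((hsame r hr hrm a (zpowers_le.mpr hb.1 ha) har haZ).le
      (cent_le_of_mem_zpowers ha (mem_cent.2 hc)))
  have hcop : ∀ r : ℕ, r.Prime → r ∣ m → ∀ g : G, PElt r g → (orderOf g).Coprime n := by
    intro r hr hrm g ⟨k, hk⟩
    exact ((S.coprime.coprime_dvd_left hrm).pow_left k).coprime_dvd_left hk
  have hdvd : ∀ (r : ℕ) [Fact r.Prime], r ∣ m → ∀ u : G, PElt r u → ind u = m * n → C[u] = D →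
      r ∣ D.relIndex M := by
    intro r hr hrm u hur hu e
    have := dvd_relIndex_normalizer S hu hur (dvd_mul_of_dvd_left hrm n)
      (fun g hg _ a ha => hab a (e ▸ ha) g (e ▸ hg))
      (fun g hg hgr hgZ => (hsame r hr.out hrm g (e ▸ hg) hgr hgZ).trans e.symm)
    rwa [e] at this
  have e1 := hdvd s hsm z hzs hzmn hCz
  rw [relIndex_eq_of_two hdat (fun g _ u hu _ => mem_center_iff.mp hu g) hmov
    (u := p) (h₀ := y) ⟨self_mem_cent y, hcop p hp.out hpm y hyp⟩ hyZ hyp
    (h₁ := z) ⟨hz, hcop s hs.out hsm z hzs⟩ hzZ (pelt_coprime_prime (Ne.symm hne) hzs)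
    (hdvd p hpm y hyp hy rfl)] at e1
  exact hne ((Nat.prime_dvd_prime_iff_eq hs.out hp.out).mp e1).symm

/-- Inside the centraliser of an `r`-element of class size `m`. -/
theorem inner {p r t : ℕ} [hp : Fact p.Prime] [hr : Fact r.Prime] [ht : Fact t.Prime]
    (hpm : p ∣ m) (hrn : r ∣ n) (htn : t ∣ n) (hrt : r ≠ t) {x y : G} (hxr : PElt r x)
    (hx : ind x = m) (hyp : PElt p y) (hyZ : y ∉ center G) (hyx : y ∈ C[x]) :
    (∀ a ∈ C[y], ∀ b ∈ C[y], Commute a b) ∧
      (C[y]).relIndex (C[x] ⊓ normalizer (C[y] : Set G)) = t ∧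
      ∃ z ∈ C[y], PElt t z ∧ z ∉ center G := by
  have hy := hno p hp.out hpm y hyp hyZ
  have hpr : p ≠ r := S.fact_ne hp.out hpm hrn
  have hpt : p ≠ t := S.fact_ne hp.out hpm htn
  set L := C[x] with hL
  set D := C[y] with hD
  have hDL : D ≤ L := S.le_of_mn hy (cent_symm hyx) (pelt_coprime hpr hyp hxr)
  set Z₀ := L ⊓ centralizer (L : Set G) with hZ₀
  have hZ₀iff : ∀ g ∈ L, (g ∈ Z₀ ↔ L ≤ C[g]) := by
    intro g hg
    constructor
    · exact fun h u hu => mem_cent.2 (mem_centralizer_iff.mp h.2 u hu)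
    · exact fun h => ⟨hg, mem_centralizer_iff.mpr fun u hu => mem_cent.1 (h hu)⟩
  have hyL : ¬ L ≤ C[y] := fun h =>
    S.m_lt_mn.ne ((S.ind_eq_m_of_le hx hyZ h).symm.trans hy)
  obtain ⟨z₁, hz₁, hz₁t, hz₁L⟩ : ∃ z ∈ L, PElt t z ∧ ¬ L ≤ C[z] := by
    by_contra hcon
    push Not at hcon
    obtain ⟨T, hTL, hT, hTc⟩ := exists_full t L
    refine not_dvd_index_of_pp (H := D) ?_ ?_ (p := t)
    · rw [← S.pp_top (fun hd => S.fact_ne ht.out hd htn rfl) hx, ← hTc]
      exact card_le_pp hT fun u hu => cent_symm (hcon u (hTL hu) (pelt_of_mem hT hu) hyx)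
    · rw [show D.index = m * n from hy]
      exact dvd_mul_of_dvd_right htn m
  obtain ⟨hmn₁, e₁, -⟩ := S.step hx hz₁ (pelt_coprime hrt hxr hz₁t) hz₁L
  obtain ⟨z, hzD, hzt, hzZ₀⟩ := exists_outside (p := t) (Z₀ := Z₀) (D₁ := C[x * z₁]) (D₂ := D)
    (by rw [e₁]; exact le_inf inf_le_left fun g hg =>
      mem_cent.2 (mem_centralizer_iff.mp hg.2 z₁ hz₁).symm)
    (Sizes.pp_ind (hmn₁.trans hy.symm)).le
    (by rw [e₁]; exact ⟨hz₁, self_mem_cent z₁⟩) hz₁t (fun h => hz₁L ((hZ₀iff z₁ hz₁).mp h))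
    (fun u hu => mem_centralizer_iff.mp hu.2 z₁ hz₁)
  have hzL : ¬ L ≤ C[z] := fun h => hzZ₀ ((hZ₀iff z (hDL hzD)).mpr h)
  have hzZ : z ∉ center G := fun h => hzL fun u _ => mem_cent.2 (mem_center_iff.mp h u)
  obtain ⟨hmn, e, -⟩ := S.step hx (hDL hzD) (pelt_coprime hrt hxr hzt) hzL
  have h1 : ∀ g ∈ D, (orderOf g).Coprime p → D ≤ C[g] := fun g hg hgp =>
    central_coprime S hy hyp hg hgp
  have hDxz : D = C[x * z] := eq_of_ind (by
    rw [e]; exact le_inf hDL (h1 z hzD (pelt_coprime_prime hpt.symm hzt))) (hy.trans hmn.symm)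
  have h2 : ∀ g ∈ D, PElt p g → D ≤ C[g] := by
    intro g hg hgp
    rw [hDxz] at hg ⊢
    refine S.le_of_mn hmn hg (Nat.Coprime.coprime_dvd_left
      ((mem_cent.1 (hDL hzD)).symm.orderOf_mul_dvd_mul_orderOf) ?_)
    exact (pelt_coprime hpr.symm hxr hgp).mul_left (pelt_coprime hpt.symm hzt hgp)
  have hab := abelian_of_pair S h1 h2
  refine ⟨hab, ?_, z, hzD, hzt, hzZ⟩
  set B := coprimePart r D hab with hB
  set M := L ⊓ normalizer (D : Set G) with hM
  have hnorm : ∀ g ∈ M, ∀ d ∈ D, g * d * g⁻¹ ∈ D := fun g hg d hd =>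
    (mem_normalizer_iff.mp hg.2 d).mp hd
  have hdat : ConjData M D B := ⟨normal_of_conj hnorm,
    fun g hg b hb => ⟨hnorm g hg b hb.1, by rw [orderOf_conj']; exact hb.2⟩,
    fun d hd _ b hb => hab d hd b hb.1, fun a ha b hb => hab a ha.1 b hb.1⟩
  have hstep : ∀ b ∈ D, (orderOf b).Coprime r → ¬ L ≤ C[b] →
      D = C[x * b] ∧ C[x * b] = L ⊓ C[b] := by
    intro b hb hbr hbL
    obtain ⟨k, hk⟩ := hxr
    obtain ⟨h3, e3, -⟩ := S.step hx (hDL hb) ((hbr.symm.pow_left k).coprime_dvd_left hk) hbL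
    exact ⟨eq_of_ind (by rw [e3]; exact le_inf hDL fun u hu => mem_cent.2 (hab u hu b hb))
      (hy.trans h3.symm), e3⟩
  have hmov : ∀ g ∈ M, g ∉ D → ∀ b ∈ B, Commute g b → b ∈ Z₀ := by
    intro g hg hgD b hb hc
    by_contra hbZ
    obtain ⟨e3, e4⟩ := hstep b hb.1 hb.2 fun h => hbZ ((hZ₀iff b (hDL hb.1)).mpr h)
    exact hgD (by rw [e3, e4]; exact ⟨hg.1, mem_cent.2 hc⟩)
  have hdvd : t ∣ D.relIndex M := by
    obtain ⟨T₀, hT₀D, hT₀, hT₀c⟩ := exists_full t D
    obtain ⟨T, hT₀T, hTL, hT, hTc⟩ := exists_full_ge hT₀ (hT₀D.trans hDL)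
    have hne' : T₀ ≠ T := by
      intro e
      refine not_dvd_index_of_pp (H := D) ?_ ?_ (p := t)
      · rw [← S.pp_top (fun hd => S.fact_ne ht.out hd htn rfl) hx, ← hTc, ← e, hT₀c]
      · rw [show D.index = m * n from hy]
        exact dvd_mul_of_dvd_right htn m
    obtain ⟨g, hgT, hgT₀, hgn⟩ := exists_normalizer_gt hT hT₀T hne'
    have hfullmem : ∀ b ∈ D, PElt t b → b ∈ T₀ := fun b hb hbu =>
      mem_full hT₀ hT₀D hT₀c hb hbu fun s hs => by
        rw [(hab b hb s (hT₀D hs)).eq, mul_inv_cancel_right]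
        exact hs
    have hgL : g ∈ L := hTL hgT
    have hgx : g * x * g⁻¹ = x := by
      rw [(mem_cent.1 hgL).eq, mul_inv_cancel_right]
    have hga : g * z * g⁻¹ ∈ D := hT₀D (hgn z (hfullmem z hzD hzt))
    have hzL' : ¬ L ≤ C[g * z * g⁻¹] := by
      intro h
      apply hzL
      intro v hv
      exact conj_mem_centralizer.mp (h (mul_mem (mul_mem hgL hv) (inv_mem hgL)))
    obtain ⟨e5, -⟩ := hstep _ hga (pelt_coprime_prime hrt.symm (pelt_conj g hzt)) hzL'
    have hconj : g * (x * z) * g⁻¹ = x * (g * z * g⁻¹) := by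
      calc g * (x * z) * g⁻¹ = g * x * g⁻¹ * (g * z * g⁻¹) := by group
        _ = x * (g * z * g⁻¹) := by rw [hgx]
    have hgN : g ∈ normalizer (D : Set G) := by
      refine mem_normalizer_iff.mpr fun v => ?_
      show v ∈ D ↔ g * v * g⁻¹ ∈ D
      conv_lhs => rw [hDxz]
      conv_rhs => rw [e5, ← hconj]
      exact conj_mem_centralizer.symm
    exact dvd_relIndex hnorm ⟨hgL, hgN⟩ (pelt_of_mem hT hgT)
      fun h => hgT₀ (hfullmem g h (pelt_of_mem hT hgT))
  exact relIndex_eq_of_two hdat (Z₀ := Z₀)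
    (fun g hg u hu _ => mem_centralizer_iff.mp hu.2 g hg.1) hmov
    (u := t) (h₀ := z) ⟨hzD, pelt_coprime_prime hrt.symm hzt⟩ hzZ₀ hzt
    (h₁ := y) ⟨self_mem_cent y, pelt_coprime_prime hpr hyp⟩
    (fun h => hyL ((hZ₀iff y hyx).mp h)) (pelt_coprime_prime hpt hyp) hdvd

/-- Only one prime divides `n`. -/
theorem prime_n_unique' {p q t : ℕ} [hp : Fact p.Prime] [hq : Fact q.Prime] [ht : Fact t.Prime]
    (hpm : p ∣ m) (hqn : q ∣ n) (htn : t ∣ n) {x : G} (hxq : PElt q x) (hx : ind x = m) :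
    q = t := by
  by_contra hne
  obtain ⟨y, hyx, hyp, hyZ⟩ := S.exists_pelt_mem hpm (S.not_center_of_ind (Or.inl hx))
  have hy := hno p hp.out hpm y hyp hyZ
  obtain ⟨hab, hrel, z, hzD, hzt, hzZ⟩ :=
    inner S hno hpm hqn htn hne hxq hx hyp hyZ hyx
  set D := C[y] with hD
  have hmp : ∀ r : ℕ, r.Prime → r ∣ m → r = p := fun r hr hrm => by
    haveI := Fact.mk hr
    exact prime_m_unique S hno hrm hpm
  set M := normalizer (D : Set G) with hM
  have hnorm : ∀ g ∈ M, ∀ d ∈ D, g * d * g⁻¹ ∈ D := fun g hg d hd =>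
    (mem_normalizer_iff.mp hg d).mp hd
  haveI hN : (D.subgroupOf M).Normal := normal_of_conj hnorm
  have hsame : ∀ g ∈ D, PElt p g → g ∉ center G → C[g] = D := fun g hg hgp hgZ =>
    (eq_of_ind (x := y) (y := g) (fun u hu => mem_cent.2 (hab u hu g hg))
      (hy.trans (hno p hp.out hpm g hgp hgZ).symm)).symm
  have hdat : ∀ (r : ℕ) [Fact r.Prime],
      ConjData M D (primePart r D fun a ha b hb _ _ => hab a ha b hb) := fun r _ =>
    ⟨normal_of_conj hnorm, fun g hg b hb => ⟨hnorm g hg b hb.1, pelt_conj g hb.2⟩,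
      fun d hd _ b hb => hab d hd b hb.1, fun a ha b hb => hab a ha.1 b hb.1⟩
  obtain ⟨T₀, hT₀D, hT₀, hT₀c⟩ := exists_full p D
  have hfullmem : ∀ b ∈ D, PElt p b → b ∈ T₀ := fun b hb hbu =>
    mem_full hT₀ hT₀D hT₀c hb hbu fun s hs => by
      rw [(hab b hb s (hT₀D hs)).eq, mul_inv_cancel_right]
      exact hs
  -- `p`-elements of the normaliser move the non-central elements of `D`
  have hpmov : ∀ g ∈ M, PElt p g → ∀ b ∈ D, Commute g b → b ∉ center G → g ∈ D := by
    intro g hg hgp b hb hc hbZ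
    refine hT₀D (mem_full hT₀ (fun s hs => mem_cent.2 (hab s (hT₀D hs) b hb))
      (hT₀c.trans (S.pp_eq hpm hyZ hbZ)) (mem_cent.2 hc) hgp fun s hs => ?_)
    exact hfullmem _ (hnorm g hg s (hT₀D hs)) (pelt_conj g (pelt_of_mem hT₀ hs))
  have hW : D.relIndex M = p := by
    set Bp := primePart p D fun a ha b hb _ _ => hab a ha b hb with hBp
    letI : CommGroup Bp := { (inferInstance : Group Bp) with
      mul_comm := fun a b => Subtype.ext (hab a a.2.1 b b.2.1) }
    set φ := conjHom (hdat p) with hφ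
    have hfix : ∀ w, ∀ u ∈ (center G).subgroupOf Bp, φ w u = u := by
      intro w u hu
      induction w using QuotientGroup.induction_on with
      | H g => exact (conjHom_fix_iff (hdat p) g u).mpr (mem_center_iff.mp (mem_subgroupOf.mp hu) g)
    have hmovp : ∀ w : ↥M ⧸ D.subgroupOf M, w ≠ 1 →
        Moves (B := ↥Bp) φ ((center G).subgroupOf Bp) w := by
      intro w
      induction w using QuotientGroup.induction_on with
      | H g =>
        intro hw b hb
        by_contra hbZ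
        refine hw ((QuotientGroup.eq_one_iff g).mpr (mem_subgroupOf.mpr ?_))
        exact (hsame b b.2.1 b.2.2 fun h => hbZ (mem_subgroupOf.mpr h)).le
          (mem_cent.2 ((conjHom_fix_iff (hdat p) g b).mp hb))
    obtain ⟨k, hk⟩ := id hyp
    have hky : (⟨y, self_mem_cent y, hyp⟩ : Bp) ^ p ^ k = 1 :=
      Subtype.ext (by simpa using orderOf_dvd_iff_pow_eq_one.mp hk)
    have hyB : (⟨y, self_mem_cent y, hyp⟩ : Bp) ∉ (center G).subgroupOf Bp := fun h =>
      hyZ (mem_subgroupOf.mp h)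
    have hdvdp : p ∣ Nat.card (↥M ⧸ D.subgroupOf M) :=
      dvd_relIndex_normalizer S hy hyp (dvd_mul_of_dvd_left hpm n)
        (fun g hg _ a ha => hab a ha g hg) hsame
    refine card_eq_prime (φ := φ) (Z₀ := (center G).subgroupOf Bp) hfix hmovp hyB hky hdvdp
      (fun U hU => ?_) fun a g ha hgP hgp hn hc => ?_
    · -- cyclicity from the `q`-part
      set Bq := primePart q D fun a ha b hb _ _ => hab a ha b hb with hBq
      letI : CommGroup Bq := { (inferInstance : Group Bq) with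
        mul_comm := fun a b => Subtype.ext (hab a a.2.1 b b.2.1) }
      have hxD : x ∈ D := cent_symm hyx
      refine card_le_of_exponent (φ := conjHom (hdat q)) (Z₀ := (center G).subgroupOf Bq) hp.out
        (fun w hw => ?_) (fun w hw hw1 => ?_) (h := ⟨x, hxD, hxq⟩)
        (fun h => S.not_center_of_ind (Or.inl hx) (mem_subgroupOf.mp h)) ?_
      · obtain ⟨j, hj⟩ := hU ⟨w, hw⟩
        exact own_pow hfix hmovp hp.out hyB (k := k) (hky ▸ one_mem _) (j := j)
          (congrArg Subtype.val hj)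
      · obtain ⟨g, rfl⟩ := QuotientGroup.mk_surjective w
        intro b hb
        by_contra hbZ
        obtain ⟨j, hj⟩ := hU ⟨_, hw⟩
        have hj' : (QuotientGroup.mk g : ↥M ⧸ D.subgroupOf M) ^ p ^ j = 1 := congrArg Subtype.val hj
        obtain ⟨a, hae, hap, haz⟩ := exists_pelt_lift hj' rfl
        refine hw1 ?_
        rw [← hae, QuotientGroup.eq_one_iff, mem_subgroupOf]
        refine hpmov a a.2 hap b b.2.1 ?_ fun h => hbZ (mem_subgroupOf.mpr h)
        obtain ⟨i, hi⟩ := mem_zpowers_iff.mp haz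
        rw [← hi]
        exact ((conjHom_fix_iff (hdat q) g b).mp hb).zpow_left i
      · rw [← Subgroup.orderOf_coe]
        exact pelt_coprime_prime (S.fact_ne hp.out hpm hqn).symm hxq
    · -- no normalising element of another prime order
      set v := orderOf g with hv
      haveI := Fact.mk hgP
      have hvn : v ∣ n := by
        have h1 : v ∣ D.relIndex M := orderOf_dvd_natCard g
        have h2 : v ∣ m * n := h1.trans ((relIndex_mul_index (le_normalizer : D ≤ M) ▸
          dvd_mul_right _ _ : D.relIndex M ∣ D.index).trans (dvd_of_eq hy))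
        exact (hgP.dvd_mul.mp h2).resolve_left fun h => hgp (hmp v hgP h)
      have hvp : v ≠ p := hgp
      obtain ⟨h₀, hh₀D, hh₀v, hh₀Z⟩ : ∃ h ∈ D, PElt v h ∧ h ∉ center G := by
        by_cases hvq : v = q
        · exact ⟨x, cent_symm hyx, hvq ▸ hxq, S.not_center_of_ind (Or.inl hx)⟩
        · obtain ⟨-, -, h⟩ := inner S hno hpm hqn hvn (Ne.symm hvq) hxq hx hyp hyZ hyx
          exact h
      set Bv := primePart v D fun a ha b hb _ _ => hab a ha b hb with hBv
      letI : CommGroup Bv := { (inferInstance : Group Bv) with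
        mul_comm := fun a b => Subtype.ext (hab a a.2.1 b b.2.1) }
      have hgnot : g ∉ Subgroup.zpowers a := fun hm => hc (by
        obtain ⟨i, rfl⟩ := Subgroup.mem_zpowers_iff.mp hm
        exact (Commute.refl a).zpow_right i)
      have hord : ∀ w ∈ Subgroup.zpowers a, (w * g) ^ v = 1 := fun w hw =>
        mul_pow_eq_one hp.out ha (pow_orderOf_eq_one g) hn hc hw
      have key := pair_pow_mem (φ := conjHom (hdat v)) (Z₀ := (center G).subgroupOf Bv) hgP hn
        hgnot hord ?_ (fun w hw => ?_) ⟨h₀, hh₀D, hh₀v⟩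
      · rw [ha] at key
        refine hh₀Z ((mem_subgroupOf (h := (⟨h₀, hh₀D, hh₀v⟩ : Bv))).mp (mem_of_pow_mem key ?_))
        rw [← Subgroup.orderOf_coe]
        exact pelt_coprime_prime hvp hh₀v
      · obtain ⟨a', rfl⟩ := QuotientGroup.mk_surjective a
        intro b hb
        by_contra hbZ
        obtain ⟨a₁, hae, hap, haz⟩ := exists_pelt_lift (u := p) (j := 1)
          (by rw [pow_one, ← ha]; exact pow_orderOf_eq_one _) (g := a') rfl
        have : (QuotientGroup.mk a' : ↥M ⧸ D.subgroupOf M) = 1 := by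
          rw [← hae, QuotientGroup.eq_one_iff, mem_subgroupOf]
          refine hpmov a₁ a₁.2 hap b b.2.1 ?_ fun h => hbZ (mem_subgroupOf.mpr h)
          obtain ⟨i, hi⟩ := mem_zpowers_iff.mp haz
          rw [← hi]
          exact ((conjHom_fix_iff (hdat v) a' b).mp hb).zpow_left i
        rw [this, orderOf_one] at ha
        exact hp.out.ne_one ha.symm
      · intro b hb
        by_contra hbZ
        obtain ⟨g', hg'⟩ := QuotientGroup.mk_surjective (w * g)
        obtain ⟨g₁, hge, hgv, hgz⟩ := exists_pelt_lift (u := v) (j := 1)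
          (by rw [pow_one]; exact hord w hw) hg'
        have hg₁D : (g₁ : G) ∉ D := fun h => hgnot (by
          have h1 : w * g = 1 := by
            rw [← hge, QuotientGroup.eq_one_iff, mem_subgroupOf]; exact h
          have : g = w⁻¹ := eq_inv_of_mul_eq_one_right h1
          rw [this]
          exact inv_mem hw)
        have hcb : Commute (g₁ : G) (b : G) := by
          obtain ⟨i, hi⟩ := mem_zpowers_iff.mp hgz
          rw [← hi]
          exact (((conjHom_fix_iff (hdat v) g' b).mp (hg' ▸ hb))).zpow_left i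
        have hbZ' : (b : G) ∉ center G := fun h => hbZ (mem_subgroupOf.mpr h)
        have hDb : D ≤ C[(b : G)] := fun u hu => mem_cent.2 (hab u hu b b.2.1)
        rcases S.cases' hbZ' with hbm | hbmn
        swap
        · exact hg₁D ((eq_of_ind hDb (hy.trans hbmn.symm)).ge (mem_cent.2 hcb))
        obtain ⟨l, hl, hln, hvl⟩ : ∃ l : ℕ, l.Prime ∧ l ∣ n ∧ v ≠ l := by
          by_cases hvq : v = q
          · exact ⟨t, ht.out, htn, hvq ▸ hne⟩
          · exact ⟨q, hq.out, hqn, hvq⟩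
        haveI := Fact.mk hl
        obtain ⟨-, hrelb, -⟩ := inner S hno hpm hvn hln hvl b.2.2 hbm hyp hyZ
          (hDb (self_mem_cent y))
        have := dvd_relIndex (fun u hu d hd => (mem_normalizer_iff.mp hu.2 d).mp hd)
          (M := C[(b : G)] ⊓ normalizer (D : Set G)) ⟨mem_cent.2 hcb, g₁.2⟩ hgv hg₁D
        rw [hrelb] at this
        exact hvl ((Nat.prime_dvd_prime_iff_eq hgP hl).mp this)
  have h1 : t ∣ D.relIndex M := by
    refine hrel ▸ ⟨(C[x] ⊓ normalizer (D : Set G)).relIndex M, ?_⟩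
    exact (relIndex_mul_relIndex _ _ _
      (le_inf (S.le_of_mn hy (cent_symm hyx) (pelt_coprime (S.fact_ne hp.out hpm hqn) hyp hxq))
        le_normalizer) inf_le_right).symm
  rw [hW] at h1
  exact S.fact_ne hp.out hpm htn ((Nat.prime_dvd_prime_iff_eq ht.out hp.out).mp h1).symm

end Cfsg.Agent.Fg24.Sizes1mn
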