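import Cfsg.Agent.Fg24.Sizes1mn.Tools

/-!
# A centraliser of index `m` with central `p`-parts is abelian, normal, of prime index
-/

set_option autoImplicit false

open Subgroup

namespace Cfsg.Agent.Fg24.Sizes1mn

variable {G : Type*} [Group G] [Finite G] {m n : ℕ}

local notation "C[" x "]" => Subgroup.centralizer ({x} : Set G)

theorem pp_le_top {r : ℕ} [Fact r.Prime] (H : Subgroup G) : pp r H ≤ pp r (⊤ : Subgroup G) := by
  rw [← pp_mul r H]
  exact Nat.le_mul_of_pos_right _ (pow_pos (Fact.out : r.Prime).pos _)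

/-- `C(x)` has index `m` and all its `p`-elements, for `p ∣ m`, are central in it. -/
structure CentralParts (S : Sizes G m n) (x : G) : Prop where
  ind_eq : ind x = m
  central : ∀ p : ℕ, p.Prime → p ∣ m → ∀ y ∈ C[x], PElt p y → C[x] ≤ C[y]

namespace CentralParts

variable {S : Sizes G m n} {x : G} (h : CentralParts S x)
include h

theorem cent_eq {u : G} (hu : u ∉ center G) (hle : C[x] ≤ C[u]) : C[u] = C[x] :=
  (S.eq_of_le_m h.ind_eq hu hle).symm

theorem cent_pelt {p : ℕ} [hp : Fact p.Prime] (hpm : p ∣ m) {z : G} (hz : z ∈ C[x])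
    (hzp : PElt p z) (hzZ : z ∉ center G) : C[z] = C[x] :=
  h.cent_eq hzZ (h.central p hp.out hpm z hz hzp)

theorem exists_central {p : ℕ} [Fact p.Prime] (hpm : p ∣ m) :
    ∃ z ∈ C[x], PElt p z ∧ z ∉ center G ∧ C[z] = C[x] := by
  obtain ⟨z, hz, hzp, hzZ⟩ :=
    S.exists_pelt_mem hpm (S.not_center_of_ind (Or.inl h.ind_eq))
  exact ⟨z, hz, hzp, hzZ, h.cent_pelt hpm hz hzp hzZ⟩

/-- An element sending a non-central `p`-element of `C(x)` into `C(x)` normalises it. -/
theorem normalizes {p : ℕ} [Fact p.Prime] (hpm : p ∣ m) {z g : G} (hz : z ∈ C[x])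
    (hzp : PElt p z) (hzZ : z ∉ center G) (hgz : g * z * g⁻¹ ∈ C[x]) :
    g ∈ normalizer (C[x] : Set G) := by
  have hgzZ : g * z * g⁻¹ ∉ center G := fun hc => hzZ (by
    have := (inferInstance : (center G).Normal).conj_mem _ hc g⁻¹
    simpa [mul_assoc] using this)
  have e1 := h.cent_pelt hpm hgz (pelt_conj g hzp) hgzZ
  have e2 := h.cent_pelt hpm hz hzp hzZ
  refine mem_normalizer_iff.mpr fun u => ?_
  show u ∈ C[x] ↔ g * u * g⁻¹ ∈ C[x]
  conv_lhs => rw [← e2]
  conv_rhs => rw [← e1]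
  exact conj_mem_centralizer.symm

theorem full_normal {p : ℕ} [hp : Fact p.Prime] (hpm : p ∣ m) {A : Subgroup G}
    (hAL : A ≤ C[x]) (hA : IsPGroup p A) : C[x] ≤ normalizer (A : Set G) := by
  refine le_trans (fun g hg => mem_centralizer_iff.mpr fun a ha => ?_)
    (centralizer_le_normalizer _)
  exact (mem_cent.1 (h.central p hp.out hpm a (hAL ha) (pelt_of_mem hA ha) hg)).eq.symm

/-- A `p`-element of a normaliser of a full `p`-subgroup outside `C(x)`. -/
theorem exists_outer {p : ℕ} [hp : Fact p.Prime] (hpm : p ∣ m) :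
    ∃ w : G, w ∈ normalizer (C[x] : Set G) ∧ w ∉ C[x] ∧ PElt p w := by
  obtain ⟨A, hAL, hA, hAc⟩ := exists_full p C[x]
  obtain ⟨P, hP⟩ := hA.exists_le_sylow
  have hne : A ≠ (P : Subgroup G) := by
    intro e
    refine absurd (hpm.trans (dvd_of_eq h.ind_eq.symm)) (not_dvd_index_of_sylow P ?_)
    exact e ▸ hAL
  obtain ⟨g, hgP, hgA, hgn⟩ := exists_normalizer_gt P.isPGroup' hP hne
  obtain ⟨z, hz, hzp, hzZ, -⟩ := h.exists_central hpm (p := p)
  have hzA : z ∈ A := mem_full_of_normal hA hAL hAc (h.full_normal hpm hAL hA) hz hzp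
  refine ⟨g, h.normalizes hpm hz hzp hzZ (hAL (hgn z hzA)), fun hgL => hgA ?_, pelt_of_mem P.isPGroup' hgP⟩
  exact mem_full_of_normal hA hAL hAc (h.full_normal hpm hAL hA) hgL (pelt_of_mem P.isPGroup' hgP)

/-- The centre of `C(x)`. -/
theorem eq_of_two {p s : ℕ} [hp : Fact p.Prime] [hs : Fact s.Prime] (hpm : p ∣ m) (hsm : s ∣ m) :
    p = s := by
  by_contra hne
  set L := C[x] with hL
  set M := normalizer (L : Set G) with hM
  set B := L ⊓ centralizer (L : Set G) with hB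
  have hconj : ∀ g ∈ M, ∀ d ∈ L, g * d * g⁻¹ ∈ L := fun g hg d hd =>
    (mem_normalizer_iff.mp hg d).mp hd
  have hdat : ConjData M L B := by
    refine ⟨normal_of_conj hconj, fun g hg b hb => ?_, fun d hd _ b hb => ?_, fun a ha b hb => ?_⟩
    · refine ⟨hconj g hg b hb.1, mem_centralizer_iff.mpr fun u hu => ?_⟩
      have hu' : g⁻¹ * u * g ∈ L := by simpa using hconj g⁻¹ (inv_mem hg) u hu
      have := mem_centralizer_iff.mp hb.2 _ hu'
      calc u * (g * b * g⁻¹) = g * (g⁻¹ * u * g * b) * g⁻¹ := by group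
        _ = g * (b * (g⁻¹ * u * g)) * g⁻¹ := by rw [this]
        _ = g * b * g⁻¹ * u := by group
    · exact mem_centralizer_iff.mp hb.2 d hd
    · exact mem_centralizer_iff.mp hb.2 a ha.1
  have hmov : ∀ g ∈ M, g ∉ L → ∀ b ∈ B, Commute g b → b ∈ center G := by
    intro g _ hgL b hb hc
    by_contra hbZ
    refine hgL ?_
    rw [hL, ← h.cent_eq hbZ fun u hu => mem_cent.2 (mem_centralizer_iff.mp hb.2 u hu)]
    exact mem_cent.2 hc
  have hfix : ∀ g ∈ M, ∀ z ∈ center G, z ∈ B → Commute g z := fun g _ z hz _ =>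
    mem_center_iff.mp hz g
  have hBmem : ∀ r : ℕ, r.Prime → r ∣ m → ∀ z ∈ L, PElt r z → z ∈ B := fun r hr hrm z hz hzp =>
    ⟨hz, mem_centralizer_iff.mpr fun u hu => mem_cent.1 (h.central r hr hrm z hz hzp hu)⟩
  obtain ⟨z, hz, hzp, hzZ, -⟩ := h.exists_central hpm (p := p)
  obtain ⟨y, hy, hys, hyZ, -⟩ := h.exists_central hsm (p := s)
  obtain ⟨w, hwM, hwL, hwp⟩ := h.exists_outer hpm (p := p)
  obtain ⟨w', hwM', hwL', hws⟩ := h.exists_outer hsm (p := s)
  have e1 := relIndex_eq_of_two hdat hfix hmov (u := p) (hBmem p hp.out hpm z hz hzp) hzZ hzp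
    (hBmem s hs.out hsm y hy hys) hyZ (pelt_coprime_prime (Ne.symm hne) hys)
    (dvd_relIndex hconj hwM hwp hwL)
  have e2 := dvd_relIndex hconj hwM' hws hwL'
  rw [e1] at e2
  exact hne ((Nat.prime_dvd_prime_iff_eq hs.out hp.out).mp e2).symm

/-- A `p`-element commuting with a non-central `q`-element is conjugate into `C(x)`. -/
theorem conj_into {p q : ℕ} [Fact p.Prime] [hq : Fact q.Prime] (hpm : p ∣ m) (hqn : q ∣ n)
    {y v : G} (hy : PElt p y) (hv : PElt q v) (hvZ : v ∉ center G) (hc : Commute y v) :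
    ∃ g : G, g * y * g⁻¹ ∈ C[x] := by
  obtain ⟨T, hTL, hT, hTc⟩ := exists_full q C[x]
  have hqm : ¬ q ∣ m := fun hd => S.fact_ne hq.out hd hqn rfl
  obtain ⟨c, -, hcT⟩ := exists_conj hT (le_top (a := T))
    (hTc.trans (S.pp_top hqm h.ind_eq)) (pelt_zpowers hv) le_top
  have hv' : c * v * c⁻¹ ∈ C[x] := hTL (hcT v (mem_zpowers v))
  have hv'Z : c * v * c⁻¹ ∉ center G := fun hz => hvZ (by
    have := (inferInstance : (center G).Normal).conj_mem _ hz c⁻¹
    simpa [mul_assoc] using this)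
  have hy' : c * y * c⁻¹ ∈ C[c * v * c⁻¹] := conj_mem_centralizer.mpr (mem_cent.2 hc)
  obtain ⟨A, hAL, hA, hAc⟩ := exists_full p C[x]
  have hAv : A ≤ C[c * v * c⁻¹] := fun a ha =>
    cent_symm (h.central p Fact.out hpm a (hAL ha) (pelt_of_mem hA ha) hv')
  obtain ⟨d, -, hd⟩ := exists_conj hA hAv
    (hAc.trans (S.pp_eq hpm (S.not_center_of_ind (Or.inl h.ind_eq)) hv'Z))
    (pelt_zpowers (pelt_conj c hy)) (zpowers_le.mpr hy')
  refine ⟨d * c, hAL ?_⟩
  have := hd _ (mem_zpowers (c * y * c⁻¹))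
  simpa [mul_assoc] using this

theorem exists_qelt {q : ℕ} [hq : Fact q.Prime] (hqn : q ∣ n) :
    ∃ v ∈ C[x], PElt q v ∧ v ∉ center G := by
  obtain ⟨y, hy, hyZ⟩ := S.exists_pelt (Or.inr hqn) (r := q)
  refine exists_outside (center_le_cent y) ?_ (self_mem_cent y) hy hyZ
    fun z hz => mem_center_iff.mp hz y
  rw [S.pp_top (fun hd => S.fact_ne hq.out hd hqn rfl) h.ind_eq]
  exact pp_le_top C[y]

/-- If a conjugate of `C(x)` is normalised by a Sylow `p`-subgroup, `C(x)` is normal. -/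
theorem normal_of {p : ℕ} [hp : Fact p.Prime] (hm : ∀ r : ℕ, r.Prime → r ∣ m → r = p) {y g : G}
    (P : Sylow p G) (hy : g * y * g⁻¹ ∈ C[x]) (hyp : PElt p y) (hyZ : y ∉ center G) (hpm : p ∣ m)
    (hPy : ∀ s ∈ (P : Subgroup G), s * y * s⁻¹ * y⁻¹ ∈ center G) : (C[x]).Normal := by
  have hgyZ : g * y * g⁻¹ ∉ center G := fun hz => hyZ (by
    have := (inferInstance : (center G).Normal).conj_mem _ hz g⁻¹
    simpa [mul_assoc] using this)
  have e := h.cent_pelt hpm hy (pelt_conj g hyp) hgyZ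
  have hy1 : ind y = m := by
    rw [← ind_conj g y, ind, e]
    exact h.ind_eq
  set N := normalizer ((C[y] : Subgroup G) : Set G) with hN
  have hPN : (P : Subgroup G) ≤ N := fun s hs =>
    mem_normalizer_iff.mpr fun u => (conj_mem_cent (hPy s hs)).symm
  have hNi : N.index = 1 := by
    by_contra hne
    obtain ⟨r, hr, hrd⟩ := Nat.exists_prime_and_dvd hne
    have h1 : r ∣ m := hy1 ▸ hrd.trans (index_dvd_of_le le_normalizer)
    obtain rfl := hm r hr h1
    exact not_dvd_index_of_sylow P hPN hrd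
  haveI hyn : (C[y]).Normal := normalizer_eq_top_iff.mp (index_eq_one.mp hNi)
  have : C[g * y * g⁻¹] = C[y] := by
    ext u
    constructor
    · intro hu
      have h1 : g * (g⁻¹ * u * g) * g⁻¹ ∈ C[g * y * g⁻¹] := by simpa [mul_assoc] using hu
      have h2 := hyn.conj_mem _ (conj_mem_centralizer.mp h1) g
      simpa [mul_assoc] using h2
    · intro hu
      have h2 := hyn.conj_mem _ hu g⁻¹
      have h3 := (conj_mem_centralizer (g := g)).mpr h2
      simpa [mul_assoc] using h3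
  rw [← e, this]
  exact hyn

end CentralParts

end Cfsg.Agent.Fg24.Sizes1mn
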