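import Cfsg.Agent.Fg24.Sizes1mn.Abelian

/-!
# The conclusion from a centraliser of index `m` with central `p`-parts
-/

set_option autoImplicit false

open Subgroup

namespace Cfsg.Agent.Fg24.Sizes1mn

variable {G : Type*} [Group G] [Finite G] {m n : ℕ}

local notation "C[" x "]" => Subgroup.centralizer ({x} : Set G)

/-- What is to be proved. -/
def Conclusion (G : Type*) [Group G] (m n : ℕ) : Prop :=
  m.Prime ∧ m ∣ n - 1 ∧ (∃ M : Subgroup G, M.Normal ∧ (M : Set G) = {x : G | (Subgroup.centralizer ({x} : Set G)).index = 1 ∨ (Subgroup.centralizer ({x} : Set G)).index = m} ∧ M.index = m ∧ IsMulCommutative M) ∧ (∃ N : Subgroup G, N.Normal ∧ (Nat.card N).Coprime m ∧ ∃ a : ℕ, N.index = m ^ a) ∧ ∀ P : Sylow m G, Nat.card (commutator (P : Subgroup G)) = m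

/-- For `u` in a `p`-group with central commutators, a subgroup of `v` with `[u, v] ∈ K`. -/
theorem comm_mem_of_closure {P K : Subgroup G}
    (hc : ∀ a ∈ P, ∀ b ∈ P, a * b * a⁻¹ * b⁻¹ ∈ center G) {T : Set G} (hT : T ⊆ P)
    (hgen : P ≤ closure T) (hK : ∀ a ∈ T, ∀ b ∈ T, a * b * a⁻¹ * b⁻¹ ∈ K) :
    ∀ a ∈ P, ∀ b ∈ P, a * b * a⁻¹ * b⁻¹ ∈ K := by
  have hle : closure T ≤ P := (closure_le P).mpr hT
  have key : ∀ u ∈ P, (∀ b ∈ T, u * b * u⁻¹ * b⁻¹ ∈ K) → ∀ b ∈ P, u * b * u⁻¹ * b⁻¹ ∈ K := by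
    intro u hu hb0
    suffices key' : ∀ b ∈ closure T, u * b * u⁻¹ * b⁻¹ ∈ K from fun b hb => key' b (hgen hb)
    intro b hb
    induction hb using closure_induction with
    | mem b hb => exact hb0 b hb
    | one => simp
    | mul b b' hb hb' IH IH' =>
      have e : u * (b * b') * u⁻¹ * (b * b')⁻¹
          = (u * b * u⁻¹ * b⁻¹) * (b * (u * b' * u⁻¹ * b'⁻¹) * b⁻¹) := by group
      rw [e, mem_center_iff.mp (hc u hu b' (hle hb')) b, mul_inv_cancel_right]
      exact mul_mem IH IH'
    | inv b hb IH =>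
      have e : u * b⁻¹ * u⁻¹ * b⁻¹⁻¹ = b⁻¹ * (u * b * u⁻¹ * b⁻¹)⁻¹ * b := by group
      rw [e, mem_center_iff.mp (inv_mem (hc u hu b (hle hb))) b⁻¹, inv_mul_cancel_right]
      exact inv_mem IH
  intro a ha b hb
  have h1 : ∀ t ∈ T, a * t * a⁻¹ * t⁻¹ ∈ K := by
    intro t ht
    have := inv_mem (key t (hT ht) (hK t ht) a ha)
    have e : a * t * a⁻¹ * t⁻¹ = (t * a * t⁻¹ * a⁻¹)⁻¹ := by group
    rwa [e]
  exact key a ha h1 b hb

/-- The commutator of a Sylow subgroup. -/
theorem card_commutator_sylow {S : Sizes G m n} {x : G} {p : ℕ} [hp : Fact p.Prime]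
    (h : CentralParts S x) (hpm : p ∣ m) (hu : ∀ r : ℕ, r.Prime → r ∣ m → r = p)
    (hN : (C[x]).Normal) (hidx : C[x].index = p) (P : Sylow p G) :
    Nat.card (commutator (P : Subgroup G)) = p := by
  set L := C[x] with hL
  haveI := hN
  set A := L ⊓ (P : Subgroup G) with hA
  have hAp : IsPGroup p A := P.isPGroup'.to_le inf_le_right
  have hPnotL : ¬ (P : Subgroup G) ≤ L := fun hle =>
    not_dvd_index_of_sylow P hle (dvd_of_eq hidx.symm)
  have hrel : L.relIndex (P : Subgroup G) = p := by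
    have h1 : L.relIndex (P : Subgroup G) ∣ p :=
      (relIndex_dvd_index_of_normal L _).trans (dvd_of_eq hidx)
    rcases (Nat.dvd_prime hp.out).mp h1 with e | e
    · exact absurd (relIndex_eq_one.mp e) hPnotL
    · exact e
  have hAP : Nat.card A * p = Nat.card (P : Subgroup G) := by
    have := card_mul_relIndex (inf_le_right : A ≤ (P : Subgroup G))
    rwa [show A.relIndex (P : Subgroup G) = p by rw [hA, inf_relIndex_right]; exact hrel] at this
  have hAc : pp p L ≤ Nat.card A := by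
    refine Nat.le_of_mul_le_mul_right ?_ hp.out.pos
    rw [hAP, P.card_eq_multiplicity, ← Subgroup.card_top (G := G)]
    refine le_of_eq ?_
    show pp p L * p = pp p (⊤ : Subgroup G)
    rw [← pp_mul p L, hidx, hp.out.factorization_self, pow_one]
  have hAc' : Nat.card A = pp p L := le_antisymm (card_le_pp hAp inf_le_left) hAc
  obtain ⟨w, hwP, hwL⟩ := SetLike.not_le_iff_exists.mp hPnotL
  have hwZ : w ∉ center G := fun hz => hwL (center_le_cent x hz)
  have hwp := pelt_of_mem P.isPGroup' hwP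
  -- the bound on `A`
  set Zp := center G ⊓ (P : Subgroup G) with hZp
  have hZA : Zp ≤ A := le_inf (inf_le_left.trans (center_le_cent x)) inf_le_right
  have hbound : Nat.card A ≤ p * Nat.card Zp := by
    obtain ⟨T, hTw, hT, hTc⟩ := exists_full p C[w]
    obtain ⟨c, -, hc⟩ := exists_conj P.isPGroup' (le_top (a := (P : Subgroup G)))
      (by rw [P.card_eq_multiplicity, ← Subgroup.card_top (G := G)]; rfl) hT le_top
    have hTZ : T ⊓ L ≤ center G := by
      rintro v ⟨hvT, hvL⟩
      by_contra hvZ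
      refine hwL ?_
      rw [hL, ← h.cent_of_mem hpm hu hvL hvZ]
      exact cent_symm (hTw hvT)
    have h1 : Nat.card T = Nat.card (T ⊓ L : Subgroup G) * L.relIndex T := by
      rw [← inf_relIndex_left T L, card_mul_relIndex inf_le_left]
    have h2 : L.relIndex T ≤ p :=
      Nat.le_of_dvd hp.out.pos ((relIndex_dvd_index_of_normal L T).trans (dvd_of_eq hidx))
    have h3 : Nat.card (T ⊓ L : Subgroup G) ≤ Nat.card Zp := by
      refine Subgroup.card_le_of_le fun v hv => ?_
      refine mem_inf.mpr ⟨hTZ hv, ?_⟩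
      have := hc v hv.1
      rwa [mem_center_iff.mp (hTZ hv) c, mul_inv_cancel_right] at this
    calc Nat.card A = pp p C[w] := hAc'.trans
          (S.pp_eq hpm (S.not_center_of_ind (Or.inl h.ind_eq)) hwZ)
      _ = Nat.card (T ⊓ L : Subgroup G) * L.relIndex T := hTc.symm.trans h1
      _ ≤ Nat.card Zp * p := Nat.mul_le_mul h3 h2
      _ = p * Nat.card Zp := mul_comm _ _
  obtain ⟨z₀, hz₀, hz₀p, hz₀Z, -⟩ := h.exists_central hpm (p := p)
  obtain ⟨A₀, hA₀L, hA₀, hA₀c⟩ := exists_full p L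
  have hAn : L ≤ normalizer (A : Set G) := h.full_normal hpm inf_le_left hAp
  have hzA : z₀ ∈ A := mem_full_of_normal hAp inf_le_left hAc' hAn hz₀ hz₀p
  have hrelA : Zp.relIndex A = p := by
    have e := card_mul_relIndex hZA
    have h1 : Zp.relIndex A ≤ p := by
      refine Nat.le_of_mul_le_mul_left ?_ (Nat.card_pos (α := Zp))
      rw [e, mul_comm]; exact hbound
    have h2 : Zp.relIndex A ≠ 1 := fun e1 => hz₀Z (relIndex_eq_one.mp e1 hzA).1
    obtain ⟨i, hi⟩ := IsPGroup.iff_card.mp hAp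
    obtain ⟨j, -, hj⟩ := (Nat.dvd_prime_pow hp.out).mp (hi ▸ relIndex_dvd_card Zp A)
    rcases j with _ | _ | j
    · exact absurd (by simpa using hj) h2
    · simpa using hj
    · exfalso
      have := Nat.pow_le_pow_right hp.out.pos (show 2 ≤ j + 1 + 1 by omega)
      have h2 := hp.out.two_le
      rw [hj] at h1
      nlinarith
  haveI hZn : (Zp.subgroupOf (P : Subgroup G)).Normal :=
    normal_of_conj fun g hg d hd => by
      rw [mem_center_iff.mp hd.1 g, mul_inv_cancel_right]; exact hd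
  have hQcard : Nat.card (↥(P : Subgroup G) ⧸ Zp.subgroupOf P) = p ^ 2 := by
    show Zp.relIndex (P : Subgroup G) = p ^ 2
    rw [← relIndex_mul_relIndex _ _ _ hZA (inf_le_right : A ≤ (P : Subgroup G)), hrelA, hA,
      inf_relIndex_right, hrel, sq]
  have hcc : ∀ a ∈ (P : Subgroup G), ∀ b ∈ (P : Subgroup G), a * b * a⁻¹ * b⁻¹ ∈ Zp := by
    intro a ha b hb
    have hcm := IsPGroup.commutative_of_card_eq_prime_sq hQcard
      (QuotientGroup.mk ⟨a, ha⟩) (QuotientGroup.mk ⟨b, hb⟩)
    have h2 : (QuotientGroup.mk (⟨a, ha⟩ * ⟨b, hb⟩ * (⟨a, ha⟩ : (P : Subgroup G))⁻¹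
        * (⟨b, hb⟩ : (P : Subgroup G))⁻¹) : ↥(P : Subgroup G) ⧸ Zp.subgroupOf P) = 1 := by
      simp only [QuotientGroup.mk_mul, QuotientGroup.mk_inv]
      rw [hcm, mul_inv_cancel_right, mul_inv_cancel]
    rw [QuotientGroup.eq_one_iff, mem_subgroupOf] at h2
    exact h2
  set c := w * z₀ * w⁻¹ * z₀⁻¹ with hcdef
  have hcZ : c ∈ center G := (hcc w hwP z₀ hzA.2).1
  set K := zpowers c with hK
  have hcz : w * z₀ * w⁻¹ = c * z₀ := by rw [hcdef]; group
  have hcp : c ^ p = 1 := by
    haveI : (Zp.subgroupOf A).Normal := normal_of_conj fun g hg d hd => by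
      rw [mem_center_iff.mp hd.1 g, mul_inv_cancel_right]; exact hd
    have h1 : z₀ ^ p ∈ center G := by
      have := pow_card_eq_one' (x := (QuotientGroup.mk ⟨z₀, hzA⟩ : ↥A ⧸ Zp.subgroupOf A))
      rw [show Nat.card (↥A ⧸ Zp.subgroupOf A) = p from hrelA, ← QuotientGroup.mk_pow,
        QuotientGroup.eq_one_iff, mem_subgroupOf] at this
      exact this.1
    have h2 : (c * z₀) ^ p = z₀ ^ p := by
      rw [← hcz, conj_pow, mem_center_iff.mp h1 w, mul_inv_cancel_right]
    rwa [(show Commute c z₀ from (mem_center_iff.mp hcZ z₀).symm).mul_pow, mul_eq_right] at h2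
  have hc1 : c ≠ 1 := by
    intro e
    refine hwL ?_
    rw [hL, ← h.cent_of_mem hpm hu hz₀ hz₀Z]
    refine mem_cent.2 ?_
    show w * z₀ = z₀ * w
    rw [e, one_mul] at hcz
    exact mul_inv_eq_iff_eq_mul.mp hcz
  have hKc : Nat.card K = p := by rw [hK, Nat.card_zpowers, orderOf_eq_prime hcp hc1]
  set T : Set G := {w, z₀} ∪ (Zp : Set G) with hT
  have hTP : T ⊆ (P : Subgroup G) := by
    rintro t ((rfl | rfl) | ht)
    exacts [hwP, hzA.2, ht.2]
  have hgen : (P : Subgroup G) ≤ closure T := by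
    have hw' : w ∈ closure T := subset_closure (Or.inl (Or.inl rfl))
    have hz' : z₀ ∈ closure T := subset_closure (Or.inl (Or.inr rfl))
    have hZ' : Zp ≤ closure T := fun t ht => subset_closure (Or.inr ht)
    have hA' : A ≤ closure T := by
      have h1 : Zp.relIndex (A ⊓ closure T) * (A ⊓ closure T).relIndex A = p := by
        rw [relIndex_mul_relIndex _ _ _ (le_inf hZA hZ') inf_le_left, hrelA]
      rcases (Nat.dvd_prime hp.out).mp (Dvd.intro _ h1) with e | e
      · exact absurd (relIndex_eq_one.mp e ⟨hzA, hz'⟩).1 hz₀Z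
      · rw [e, mul_right_eq_self₀] at h1
        have := h1.resolve_right hp.out.ne_zero
        exact (relIndex_eq_one.mp this).trans inf_le_right
    have hcle : closure T ≤ (P : Subgroup G) := (closure_le _).mpr hTP
    have h1 : A.relIndex (closure T) * (closure T).relIndex (P : Subgroup G) = p := by
      rw [relIndex_mul_relIndex _ _ _ hA' hcle, hA, inf_relIndex_right, hrel]
    rcases (Nat.dvd_prime hp.out).mp (Dvd.intro _ h1) with e | e
    · exact absurd (relIndex_eq_one.mp e hw').1 hwL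
    · rw [e, mul_right_eq_self₀] at h1
      exact relIndex_eq_one.mp (h1.resolve_right hp.out.ne_zero)
  have hKT : ∀ a ∈ T, ∀ b ∈ T, a * b * a⁻¹ * b⁻¹ ∈ K := by
    have hz1 : ∀ a b : G, a ∈ center G ∨ b ∈ center G → a * b * a⁻¹ * b⁻¹ ∈ K := by
      intro a b hab
      have e : a * b = b * a := hab.elim (fun h => (mem_center_iff.mp h b).symm)
        fun h => mem_center_iff.mp h a
      rw [e, mul_inv_cancel_right, mul_inv_cancel]
      exact one_mem K
    have hwz : z₀ * w * z₀⁻¹ * w⁻¹ ∈ K := by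
      have e : z₀ * w * z₀⁻¹ * w⁻¹ = c⁻¹ := by rw [hcdef]; group
      rw [e]; exact inv_mem (mem_zpowers c)
    rintro a ((rfl | rfl) | ha) b ((rfl | rfl) | hb)
    all_goals first
      | exact hz1 _ _ (Or.inl ha.1)
      | exact hz1 _ _ (Or.inr hb.1)
      | exact mem_zpowers c
      | exact hwz
      | (simp only [mul_inv_cancel_right, mul_inv_cancel]; exact one_mem K)
  have hmain := comm_mem_of_closure (fun a ha b hb => (hcc a ha b hb).1) hTP hgen hKT
  have hle : commutator (P : Subgroup G) ≤ K.subgroupOf P := by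
    rw [_root_.commutator_def, Subgroup.commutator_le]
    intro a _ b _
    rw [mem_subgroupOf]
    simpa [commutatorElement_def] using hmain a a.2 b b.2
  have hKP : K ≤ (P : Subgroup G) := zpowers_le.mpr (hcc w hwP z₀ hzA.2).2
  have hdvd : Nat.card (commutator (P : Subgroup G)) ∣ p := by
    refine (card_dvd_of_le hle).trans (dvd_of_eq ?_)
    rw [Nat.card_congr (subgroupOfEquivOfLe hKP).toEquiv]
    exact hKc
  refine ((Nat.dvd_prime hp.out).mp hdvd).resolve_left fun e => hc1 ?_
  have hmem : (⟨w, hwP⟩ : (P : Subgroup G)) * ⟨z₀, hzA.2⟩ * ⟨w, hwP⟩⁻¹ * ⟨z₀, hzA.2⟩⁻¹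
      ∈ commutator (P : Subgroup G) := by
    rw [← commutatorElement_def]
    exact Subgroup.commutator_mem_commutator (mem_top _) (mem_top _)
  rw [Subgroup.eq_bot_of_card_eq _ e, mem_bot] at hmem
  exact congrArg Subtype.val hmem

theorem conclusion_of_central {S : Sizes G m n} {x : G} (h : CentralParts S x) :
    Conclusion G m n := by
  obtain ⟨p, hp, hpm, hu⟩ := exists_prime_unique h
  haveI := Fact.mk hp
  set L := C[x] with hL
  haveI hN : L.Normal := h.normal hpm hu
  have hmp : m = p := by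
    have := h.relIndex_normalizer hpm hu
    rw [normalizer_eq_top_iff.mpr hN, relIndex_top_right] at this
    exact h.ind_eq.symm.trans this
  subst hmp
  have hidx : L.index = m := h.ind_eq
  have hLc : ∀ g : G, PElt m g → g ∈ L ∨ ind g = m * n := by
    intro g hg
    by_cases hgL : g ∈ L
    · exact Or.inl hgL
    refine Or.inr ((S.cases' fun hz => hgL (center_le_cent x hz)).resolve_left fun e => ?_)
    obtain ⟨q, hq, hqn⟩ := Nat.exists_prime_and_dvd S.one_lt_n.ne'
    haveI := Fact.mk hq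
    obtain ⟨y, hy, hyZ⟩ := S.exists_pelt (Or.inr hqn) (r := q)
    obtain ⟨v, hv, hvq, hvZ⟩ := exists_outside (center_le_cent y)
      (by rw [S.pp_top (fun hd => S.fact_ne hq hd hqn rfl) e]; exact pp_le_top _) (self_mem_cent y)
      hy hyZ fun z hz => mem_center_iff.mp hz y
    obtain ⟨c, hc⟩ := h.conj_into hpm hqn hg hvq hvZ (mem_cent.1 hv).symm
    refine hgL ?_
    have := hN.conj_mem _ hc c⁻¹
    simpa [mul_assoc] using this
  have hcop : ∀ g : G, (orderOf g).Coprime m → g ∈ L := fun g hg =>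
    mem_of_coprime_relIndex (D := L) (M := ⊤) (fun a _ d hd => hN.conj_mem d hd a) (mem_top g)
      (by rwa [relIndex_top_right, hidx])
  have hLab := h.abelian hpm hu
  -- the index-`m` elements lie in `L`
  have hset : ∀ u : G, u ∈ L ↔ ind u = 1 ∨ ind u = m := by
    intro u
    constructor
    · intro hu'
      by_cases huZ : u ∈ center G
      · exact Or.inl (ind_eq_one.mpr huZ)
      · exact Or.inr (by rw [ind, h.cent_of_mem hpm hu hu' huZ]; exact hidx)
    · rintro (e | e)
      · exact center_le_cent x (ind_eq_one.mp e)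
      obtain ⟨a, b, hab, -, ha, -, hap, hbp⟩ := exists_parts m u
      rw [hab]
      refine mul_mem ((hLc a hap).resolve_right fun e' => ?_) (hcop b hbp)
      have haZ : a ∉ center G := S.not_center_of_ind (Or.inr e')
      exact S.m_lt_mn.ne ((S.ind_eq_m_of_le e haZ (cent_le_of_mem_zpowers ha)).symm.trans e')
  -- the complement
  set N : Subgroup G :=
    { carrier := {g | (orderOf g).Coprime m}
      one_mem' := by simp [Nat.coprime_one_left_iff]
      mul_mem' := fun {a b} ha hb => Nat.Coprime.coprime_dvd_left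
        (Commute.orderOf_mul_dvd_mul_orderOf (hLab a (hcop a ha) b (hcop b hb))) (ha.mul_left hb)
      inv_mem' := fun {a} ha => by simpa [orderOf_inv] using ha } with hNdef
  have hNmem : ∀ g : G, g ∈ N ↔ (orderOf g).Coprime m := fun g => Iff.rfl
  haveI hNn : N.Normal := ⟨fun a ha g => by
    rw [hNmem, orderOf_conj']; exact ha⟩
  have hNcop : (Nat.card N).Coprime m := by
    rw [Nat.coprime_comm, hp.coprime_iff_not_dvd]
    intro hd
    obtain ⟨⟨a, ha⟩, hao⟩ := exists_prime_orderOf_dvd_card' m hd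
    rw [Subgroup.orderOf_mk] at hao
    rw [hNmem, hao, Nat.coprime_self] at ha
    exact hp.ne_one ha
  have hNidx : ∀ r : ℕ, r.Prime → r ∣ N.index → r = m := by
    intro r hr hd
    haveI := Fact.mk hr
    by_contra hne
    obtain ⟨R⟩ : Nonempty (Sylow r G) := inferInstance
    exact not_dvd_index_of_sylow R
      (fun g hg => pelt_coprime_prime hne (pelt_of_mem R.isPGroup' hg)) hd
  obtain ⟨i, hi⟩ : ∃ i, N.index = m ^ i :=
    ⟨_, Nat.eq_prime_pow_of_unique_prime_dvd index_ne_zero_of_finite fun {r} hr hd => hNidx r hr hd⟩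
  refine ⟨hp, ?_, ⟨L, hN, ?_, hidx, ?_⟩, ⟨N, hNn, hNcop, i, hi⟩,
    fun P => card_commutator_sylow h hpm hu hN hidx P⟩
  · -- the congruence
    obtain ⟨w, -, hwL, hwp⟩ := h.exists_outer hpm (p := m)
    have hwmn : ind w = m * n := (hLc w hwp).resolve_left hwL
    have hfixw : ∀ v ∈ N, Commute w v → v ∈ center G := by
      intro v hv hc
      by_contra hvZ
      exact hwL ((h.cent_of_mem hpm hu (hcop v hv) hvZ).le (mem_cent.2 hc))
    have hmod : (center G).relIndex N ≡ 1 [MOD m] :=
      relIndex_center_modEq hwp (fun v hv => hNn.conj_mem v hv w) (fun v hv => hv) hfixw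
    set n' := C[w].relIndex N with hn'
    have hn'e : n' = (center G).relIndex N := by
      rw [hn', ← inf_relIndex_right C[w] N, ← inf_relIndex_right (center G) N]
      congr 1
      exact le_antisymm (fun v hv => ⟨hfixw v hv.2 (mem_cent.1 hv.1).symm, hv.2⟩)
        (inf_le_inf_right N (center_le_cent w))
    have hkey : n' * N.index = N.relIndex C[w] * (m * n) := by
      have h1 := relIndex_mul_index (inf_le_right : C[w] ⊓ N ≤ N)
      have h2 := relIndex_mul_index (inf_le_left : C[w] ⊓ N ≤ C[w])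
      rw [inf_relIndex_right] at h1
      rw [inf_comm, inf_relIndex_right, inf_comm, show C[w].index = m * n from hwmn] at h2
      rw [hn', h1, h2]
    obtain ⟨j, -, hj⟩ := (Nat.dvd_prime_pow hp).mp (hi ▸ relIndex_dvd_index_of_normal N C[w])
    rw [hi, hj] at hkey
    have hn'cop : n'.Coprime m := hNcop.coprime_dvd_left (relIndex_dvd_card _ _)
    have e : n' = n := by
      refine Nat.dvd_antisymm ?_ ?_
      · refine (hn'cop.pow_right (j + 1)).dvd_of_dvd_mul_left ?_
        exact Dvd.intro _ (hkey.trans (by rw [pow_succ, mul_assoc]))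
      · refine (S.coprime.symm.pow_right i).dvd_of_dvd_mul_right ?_
        exact ⟨m ^ j * m, hkey.trans (by ring)⟩
    rw [← hn'e, e] at hmod
    exact (Nat.modEq_iff_dvd' S.one_lt_n.le).mp hmod.symm
  · ext u
    exact hset u
  · exact ⟨⟨fun a b => Subtype.ext (hLab a a.2 b b.2)⟩⟩

end Cfsg.Agent.Fg24.Sizes1mn
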