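import Cfsg.Agent.Fg24.Sizes1mn.Line
import Cfsg.Agent.Fg24.Sizes1mn.Final

/-!
# The two-prime case is impossible, and the main theorem
-/

set_option autoImplicit false

open Subgroup

namespace Cfsg.Agent.Fg24.Sizes1mn

variable {G : Type*} [Group G] [Finite G] {m n : ℕ}

local notation "C[" x "]" => Subgroup.centralizer ({x} : Set G)

theorem twoPrime_false {S : Sizes G m n} {p q : ℕ} [hp : Fact p.Prime] [hq : Fact q.Prime]
    (T : TwoPrime S p q) : False := by
  classical
  have hpq : p ≠ q := T.coprime_n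
  have hqm : ¬ q ∣ m := fun hd => S.fact_ne hq.out hd T.dvd_n rfl
  obtain ⟨P⟩ : Nonempty (Sylow p G) := inferInstance
  obtain ⟨y, hyP, hyZ, hyp, hyc⟩ := exists_second P.isPGroup' (S.sylow_not_le (Or.inl T.dvd_m) P)
  obtain ⟨hmp, x, K, L₁⟩ := exists_lineData T P hyP hyZ hyp hyc
  have hpe := pelt_of_mem P.isPGroup' hyP
  have hy := T.noP p hp.out T.dvd_m y hpe hyZ
  haveI := L₁.K_normal
  set D := C[y] with hD
  set A := (P : Subgroup G) ⊓ D with hA
  set Zp := center G ⊓ (P : Subgroup G) with hZp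
  have hAp : IsPGroup p A := P.isPGroup'.to_le inf_le_left
  have hZA : Zp ≤ A := le_inf inf_le_right (inf_le_left.trans (center_le_cent y))
  have hrelP : A.relIndex (P : Subgroup G) = p := by
    rw [hA, inf_relIndex_left]; exact L₁.relIndex
  have hnP : ¬ (P : Subgroup G) ≤ D := fun hle => hyZ (S.center_of_le T.dvd_m P hle)
  obtain ⟨w, hwP, hwD⟩ := SetLike.not_le_iff_exists.mp hnP
  have hwpe := pelt_of_mem P.isPGroup' hwP
  have hwZ : w ∉ center G := fun hz => hwD (center_le_cent y hz)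
  have hwH : w ∉ C[x] := fun h => hwD (L₁.x_inf.le ⟨hwP, h⟩).2
  have hppC : ∀ {g : G}, g ∉ center G → pp p C[g] = Nat.card A := fun hg => by
    rw [L₁.card_inf]; exact S.pp_eq T.dvd_m hg hyZ
  -- `p`-elements of `C(x)` lie in `K`
  have hpK : ∀ g ∈ C[x], PElt p g → g ∈ K := fun g hg hgp => by
    refine mem_of_coprime_relIndex (fun a _ d hd => L₁.K_normal.conj_mem d hd a) hg ?_
    obtain ⟨k, hk⟩ := hgp
    refine (((Nat.Prime.coprime_iff_not_dvd hp.out).mpr (not_dvd_relIndex L₁.K_le ?_)).pow_left k).coprime_dvd_left hk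
    rw [hppC (S.not_center_of_ind (Or.inl L₁.x_ind)), L₁.card_inf]
    exact card_le_pp (hAp) (inf_le_right.trans L₁.le_K) |>.trans_eq' (by rw [L₁.card_inf])
  -- `A` is small
  obtain ⟨v, hvw, hvq, hvZ⟩ := T.exists_qelt (T.noP p hp.out T.dvd_m w hwpe hwZ)
  have hvK : v ∈ K := L₁.detect w hwP hwD v hvq (mem_cent.1 hvw)
  have hvm : ind v = m := by
    refine (S.cases' hvZ).resolve_right fun e => hwH ?_
    have h1 := S.le_of_mn e (cent_symm hvw) (pelt_coprime hpq.symm hvq hwpe)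
    exact cent_symm (h1 (cent_symm (L₁.K_le hvK)))
  have hAsmall : Nat.card A ≤ p * Nat.card Zp := by
    obtain ⟨W, hWw, hWv, hW, hWc⟩ := exists_full_ge (p := p) (pelt_zpowers hwpe)
      (zpowers_le.mpr (cent_symm hvw))
    have hJ : ∀ g ∈ C[v] ⊓ K, PElt p g → g ∈ center G := by
      intro g hg hgp
      by_contra hgZ
      have hgmn := T.noP p hp.out T.dvd_m g hgp hgZ
      have h1 : C[g] ≤ C[x] := S.le_of_mn hgmn (cent_symm (L₁.K_le hg.2))
        (pelt_coprime hpq hgp L₁.x_pelt)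
      have h2 : C[g] ≤ C[v] := S.le_of_mn hgmn (cent_symm hg.1) (pelt_coprime hpq hgp hvq)
      obtain ⟨U, hUg, hU, hUc⟩ := exists_full p C[g]
      have hUJ : U ≤ C[v] ⊓ K := fun u hu =>
        ⟨h2 (hUg hu), hpK u (h1 (hUg hu)) (pelt_of_mem hU hu)⟩
      have hwJ : w ∈ C[v] ⊓ K := by
        refine mem_of_coprime_relIndex (D := C[v] ⊓ K) (M := C[v]) (fun a ha d hd =>
          mem_inf.mpr ⟨mul_mem (mul_mem ha hd.1) (inv_mem ha), L₁.K_normal.conj_mem d hd.2 a⟩) (cent_symm hvw) ?_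
        obtain ⟨k, hk⟩ := id hwpe
        refine (((Nat.Prime.coprime_iff_not_dvd hp.out).mpr
          (not_dvd_relIndex inf_le_left ?_)).pow_left k).coprime_dvd_left hk
        rw [hppC hvZ, ← hppC hgZ, ← hUc]
        exact card_le_pp hU hUJ
      exact hwH (L₁.K_le hwJ.2)
    have h3 : Nat.card W = Nat.card (W ⊓ K : Subgroup G) * K.relIndex W := by
      rw [← inf_relIndex_left W K, card_mul_relIndex inf_le_left]
    have h4 : K.relIndex W ≤ p := by
      obtain ⟨i, -, hi⟩ := (Nat.dvd_prime_pow hp.out).mp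
        (show K.relIndex W ∣ p ^ (Nat.card C[v]).factorization p from (relIndex_dvd_card K W).trans hWc.dvd)
      have h5 : p ^ i ∣ K.index := hi ▸ relIndex_dvd_index_of_normal K W
      have h6 : i ≤ K.index.factorization p :=
        (hp.out.pow_dvd_iff_le_factorization index_ne_zero_of_finite).mp h5
      have h7 : K.index.factorization p ≤ 1 := by
        have e1 := pp_mul p K
        rw [← pp_mul p D, show D.index = m * n from hy, S.fact_mn hp.out T.dvd_m, hmp,
          hp.out.factorization_self, pow_one] at e1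
        have hle : pp p D ≤ pp p K := by
          rw [← L₁.card_inf]; exact card_le_pp hAp (inf_le_right.trans L₁.le_K)
        have h8 : p ^ K.index.factorization p ≤ p ^ 1 := by
          rw [pow_one]
          exact Nat.le_of_mul_le_mul_left ((Nat.mul_le_mul_right _ hle).trans e1.le) (pp_pos D)
        exact (Nat.pow_le_pow_iff_right hp.out.one_lt).mp h8
      rw [hi]
      calc p ^ i ≤ p ^ 1 := Nat.pow_le_pow_right hp.out.pos (h6.trans h7)
        _ = p := pow_one p
    have h9 : Nat.card (W ⊓ K : Subgroup G) ≤ Nat.card Zp := by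
      refine Subgroup.card_le_of_le fun g hg => ?_
      have hgp := pelt_of_mem hW hg.1
      have hgz := hJ g ⟨hWv hg.1, hg.2⟩ hgp
      refine mem_inf.mpr ⟨hgz, mem_full P.isPGroup' le_top ?_ (mem_top g) hgp fun s hs => ?_⟩
      · rw [P.card_eq_multiplicity, pp, Subgroup.card_top]
      · rw [← mem_center_iff.mp hgz s, mul_inv_cancel_right]; exact hs
    calc Nat.card A = Nat.card W := by rw [hWc, hppC hvZ]
      _ = Nat.card (W ⊓ K : Subgroup G) * K.relIndex W := h3
      _ ≤ Nat.card Zp * p := Nat.mul_le_mul h9 h4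
      _ = p * Nat.card Zp := mul_comm _ _
  have hrelA : Zp.relIndex A = p := by
    have e := card_mul_relIndex hZA
    have h1 : Zp.relIndex A ≤ p := by
      refine Nat.le_of_mul_le_mul_left ?_ (Nat.card_pos (α := Zp))
      rw [e, mul_comm]; exact hAsmall
    have h2 : Zp.relIndex A ≠ 1 := fun e1 => hyZ (relIndex_eq_one.mp e1 ⟨hyP, self_mem_cent y⟩).1
    obtain ⟨i, hi⟩ := IsPGroup.iff_card.mp hAp
    obtain ⟨j, -, hj⟩ := (Nat.dvd_prime_pow hp.out).mp (hi ▸ relIndex_dvd_card Zp A)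
    rcases j with _ | _ | j
    · exact absurd (by simpa using hj) h2
    · simpa using hj
    · exfalso
      have := Nat.pow_le_pow_right hp.out.pos (show 2 ≤ j + 1 + 1 by omega)
      have h2 := hp.out.two_le
      rw [hj] at h1
      nlinarith
  -- `P / Zp` is abelian of order `p ^ 2`
  haveI hZn : (Zp.subgroupOf (P : Subgroup G)).Normal :=
    normal_of_conj fun g hg d hd => by
      rw [mem_center_iff.mp hd.1 g, mul_inv_cancel_right]; exact hd
  have hQcard : Nat.card (↥(P : Subgroup G) ⧸ Zp.subgroupOf P) = p ^ 2 := by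
    show Zp.relIndex (P : Subgroup G) = p ^ 2
    rw [← relIndex_mul_relIndex _ _ _ hZA (inf_le_left : A ≤ (P : Subgroup G)), hrelA, hrelP, sq]
  have hcc : ∀ a ∈ (P : Subgroup G), ∀ b ∈ (P : Subgroup G), a * b * a⁻¹ * b⁻¹ ∈ center G := by
    intro a ha b hb
    have hcm := IsPGroup.commutative_of_card_eq_prime_sq hQcard
      (QuotientGroup.mk ⟨a, ha⟩) (QuotientGroup.mk ⟨b, hb⟩)
    have h2 : (QuotientGroup.mk (⟨a, ha⟩ * ⟨b, hb⟩ * (⟨a, ha⟩ : (P : Subgroup G))⁻¹
        * (⟨b, hb⟩ : (P : Subgroup G))⁻¹) : ↥(P : Subgroup G) ⧸ Zp.subgroupOf P) = 1 := by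
      simp only [QuotientGroup.mk_mul, QuotientGroup.mk_inv]
      rw [hcm, mul_inv_cancel_right, mul_inv_cancel]
    rw [QuotientGroup.eq_one_iff, mem_subgroupOf] at h2
    exact h2.1
  have hspan : ∀ u ∈ (P : Subgroup G), u ∉ center G →
      Nat.card (zpowers u ⊔ Zp : Subgroup G) = Nat.card A ∧
      ∀ S' : Subgroup G, S' ≤ (P : Subgroup G) ⊓ C[u] → zpowers u ⊔ Zp ≤ S' →
        S' = zpowers u ⊔ Zp := by
    intro u huP huZ
    have hle : zpowers u ⊔ Zp ≤ (P : Subgroup G) ⊓ C[u] := sup_le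
      (zpowers_le.mpr ⟨huP, self_mem_cent u⟩) (le_inf inf_le_right (inf_le_left.trans (center_le_cent u)))
    have hcard : Nat.card (zpowers u ⊔ Zp : Subgroup G) = Nat.card A := by
      refine le_antisymm ?_ ?_
      · rw [← hppC huZ]
        exact card_le_pp (P.isPGroup'.to_le (hle.trans inf_le_left)) (hle.trans inf_le_right)
      · have e := card_mul_relIndex (le_sup_right : Zp ≤ zpowers u ⊔ Zp)
        rw [← e, ← card_mul_relIndex hZA, hrelA]
        refine Nat.mul_le_mul_left _ ?_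
        obtain ⟨i, hi⟩ := IsPGroup.iff_card.mp (P.isPGroup'.to_le (hle.trans inf_le_left))
        obtain ⟨j, -, hj⟩ := (Nat.dvd_prime_pow hp.out).mp
          (hi ▸ relIndex_dvd_card Zp (zpowers u ⊔ Zp))
        rcases j with _ | j
        · have h1 : Zp.relIndex (zpowers u ⊔ Zp) = 1 := by simpa using hj
          exact absurd (relIndex_eq_one.mp h1 (mem_sup_left (mem_zpowers u))).1 huZ
        · rw [hj]; exact Nat.le_self_pow (Nat.succ_ne_zero j) p
    refine ⟨hcard, fun S' hS' hle' => (Subgroup.eq_of_le_of_card_ge hle' ?_).symm⟩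
    rw [hcard, ← hppC huZ]
    exact card_le_pp (P.isPGroup'.to_le (hS'.trans inf_le_left)) (hS'.trans inf_le_right)
  have hpow : ∀ u ∈ (P : Subgroup G), u ∉ center G → u ^ p ∈ center G := by
    intro u huP huZ
    obtain ⟨hcard, -⟩ := hspan u huP huZ
    haveI : (Zp.subgroupOf (zpowers u ⊔ Zp)).Normal := normal_of_conj fun g hg d hd => by
      rw [mem_center_iff.mp hd.1 g, mul_inv_cancel_right]; exact hd
    have hq' : Zp.relIndex (zpowers u ⊔ Zp) = p := by
      have e := card_mul_relIndex (le_sup_right : Zp ≤ zpowers u ⊔ Zp)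
      rw [hcard, ← card_mul_relIndex hZA, hrelA] at e
      exact Nat.eq_of_mul_eq_mul_left Nat.card_pos e
    have h2 := pow_card_eq_one' (x := (QuotientGroup.mk ⟨u, mem_sup_left (mem_zpowers u)⟩ :
      ↥(zpowers u ⊔ Zp) ⧸ Zp.subgroupOf (zpowers u ⊔ Zp)))
    rw [show Nat.card (↥(zpowers u ⊔ Zp) ⧸ Zp.subgroupOf (zpowers u ⊔ Zp)) = p from hq',
      ← QuotientGroup.mk_pow, QuotientGroup.eq_one_iff, mem_subgroupOf] at h2
    exact h2.1
  obtain ⟨-, x₂, K₂, L₂⟩ :=
    exists_lineData T P hwP hwZ (hpow w hwP hwZ) fun s hs => hcc s hs w hwP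
  haveI := L₂.K_normal
  have hyD₂ : y ∉ C[w] := fun h => hwD (cent_symm h)
  -- `q`-elements lie in `K` and `K₂`
  have hfall : ∀ (y₁ x₁ : G) (K₁ : Subgroup G), y₁ ∈ (P : Subgroup G) → y₁ ∉ center G →
      LineData p q m (P : Subgroup G) y₁ x₁ K₁ → ∀ g : G, PElt q g → g ∈ K₁ := by
    intro y₁ x₁ K₁ hy₁P hy₁Z L g hgq
    haveI := L.K_normal
    by_cases hgZ : g ∈ center G
    · exact L.le_K (center_le_cent y₁ hgZ)
    obtain ⟨u, hug, hup, huZ⟩ := S.exists_pelt_mem T.dvd_m hgZ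
    obtain ⟨c, -, hc⟩ := exists_conj P.isPGroup' (le_top (a := (P : Subgroup G)))
      (by rw [P.card_eq_multiplicity, pp, Subgroup.card_top]) (pelt_zpowers hup) le_top
    have huP : c * u * c⁻¹ ∈ (P : Subgroup G) := hc u (mem_zpowers u)
    have hcu : c * g * c⁻¹ ∈ C[c * u * c⁻¹] := conj_mem_centralizer.mpr (cent_symm hug)
    have hcuZ : c * u * c⁻¹ ∉ center G := fun hz => huZ (by
      have := (inferInstance : (center G).Normal).conj_mem _ hz c⁻¹
      simpa [mul_assoc] using this)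
    suffices hgK : c * g * c⁻¹ ∈ K₁ by
      have := L.K_normal.conj_mem _ hgK c⁻¹
      simpa [mul_assoc] using this
    by_cases hin : c * u * c⁻¹ ∈ C[y₁]
    · -- the same line
      obtain ⟨-, huniq⟩ := hspan (c * u * c⁻¹) huP hcuZ
      obtain ⟨hc1, -⟩ := hspan y₁ hy₁P hy₁Z
      have hy₁u : y₁ ∈ zpowers (c * u * c⁻¹) ⊔ Zp := by
        have h1 : zpowers (c * u * c⁻¹) ⊔ Zp ⊔ zpowers y₁ = zpowers (c * u * c⁻¹) ⊔ Zp := by
          refine huniq _ (sup_le (sup_le (zpowers_le.mpr ⟨huP, self_mem_cent _⟩)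
            (le_inf inf_le_right (inf_le_left.trans (center_le_cent _))))
            (zpowers_le.mpr ⟨hy₁P, cent_symm hin⟩)) le_sup_left
        exact h1.le (mem_sup_right (mem_zpowers y₁))
      have hle : C[c * u * c⁻¹] ≤ C[y₁] := by
        intro d hd
        have h2 : zpowers (c * u * c⁻¹) ⊔ Zp ≤ C[d] := sup_le
          (zpowers_le.mpr (cent_symm hd)) (inf_le_left.trans (center_le_cent d))
        exact cent_symm (h2 hy₁u)
      exact L.le_K (hle hcu)
    · exact L.detect _ huP hin _ (pelt_conj c hgq) (mem_cent.1 hcu)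
  set N := K ⊓ K₂ with hN
  have hqN : ∀ g : G, PElt q g → g ∈ N := fun g hg =>
    ⟨hfall y x K hyP hyZ L₁ g hg, hfall w x₂ K₂ hwP hwZ L₂ g hg⟩
  have hPfull : Nat.card (P : Subgroup G) = pp p (⊤ : Subgroup G) := by
    rw [P.card_eq_multiplicity, pp, Subgroup.card_top]
  have hNp : ∀ g ∈ N, PElt p g → g ∈ center G := by
    intro g hg hgp
    obtain ⟨c, -, hc⟩ := exists_conj P.isPGroup' (le_top (a := (P : Subgroup G))) hPfull
      (pelt_zpowers hgp) le_top
    have hgP : c * g * c⁻¹ ∈ (P : Subgroup G) := hc g (mem_zpowers g)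
    by_contra hgZ
    have hcgZ : c * g * c⁻¹ ∉ center G := fun hz => hgZ (by
      have := (inferInstance : (center G).Normal).conj_mem _ hz c⁻¹
      simpa [mul_assoc] using this)
    have h1 : c * g * c⁻¹ ∈ C[y] :=
      (L₁.x_inf.le ⟨hgP, L₁.K_le (L₁.K_normal.conj_mem g hg.1 c)⟩).2
    have h2 : c * g * c⁻¹ ∈ C[w] :=
      (L₂.x_inf.le ⟨hgP, L₂.K_le (L₂.K_normal.conj_mem g hg.2 c)⟩).2
    obtain ⟨-, huniq⟩ := hspan _ hgP hcgZ
    have hboth : ∀ u ∈ (P : Subgroup G), c * g * c⁻¹ ∈ C[u] → u ∈ zpowers (c * g * c⁻¹) ⊔ Zp := by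
      intro u hu hcu
      have h3 : zpowers (c * g * c⁻¹) ⊔ Zp ⊔ zpowers u = zpowers (c * g * c⁻¹) ⊔ Zp :=
        huniq _ (sup_le (sup_le (zpowers_le.mpr ⟨hgP, self_mem_cent _⟩)
          (le_inf inf_le_right (inf_le_left.trans (center_le_cent _))))
          (zpowers_le.mpr ⟨hu, cent_symm hcu⟩)) le_sup_left
      exact h3.le (mem_sup_right (mem_zpowers u))
    refine hwD ?_
    have h4 : zpowers (c * g * c⁻¹) ⊔ Zp ≤ C[y] := sup_le (zpowers_le.mpr h1)
      (inf_le_left.trans (center_le_cent y))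
    exact h4 (hboth w hwP h2)
  obtain ⟨Q, -, hQ, hQc⟩ := exists_full q (⊤ : Subgroup G)
  have hQN : Q ≤ N := fun g hg => hqN g (pelt_of_mem hQ hg)
  have hNn : N ≤ normalizer (Q : Set G) := by
    refine TwoClassSizes.le_of_primePow_mem fun g hg r hr hgr => ?_
    haveI := Fact.mk hr
    by_cases hgZ : g ∈ center G
    · exact centralizer_le_normalizer _
        (mem_centralizer_iff.mpr fun a _ => mem_center_iff.mp hgZ a)
    by_cases hrm : r ∣ m
    · exact absurd (hNp g hg (T.uniq_m r hr hrm ▸ hgr)) hgZ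
    obtain rfl := T.uniq_n r hr ((S.prime_cases hgr hgZ).resolve_left hrm)
    -- conjugates of `Q` by `N` have no room
    have hR : (N ⊓ normalizer (Q : Set G)).relIndex N = 1 := by
      by_contra hne
      obtain ⟨t, ht, htd⟩ := Nat.exists_prime_and_dvd hne
      haveI := Fact.mk ht
      refine not_dvd_relIndex inf_le_left ?_ htd
      obtain ⟨R, hRN, hR, hRc⟩ := exists_full t N
      by_cases htr : t = r
      · subst htr
        calc pp t N ≤ pp t (⊤ : Subgroup G) := pp_le_top N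
          _ = Nat.card Q := hQc.symm
          _ ≤ _ := card_le_pp hQ (le_inf hQN le_normalizer)
      rw [← hRc]
      refine card_le_pp hR (le_inf hRN fun a ha => ?_)
      have haz : a ∈ center G := by
        by_contra haZ
        rcases S.prime_cases (pelt_of_mem hR ha) haZ with h | h
        · exact haZ (hNp a (hRN ha) (T.uniq_m t ht h ▸ pelt_of_mem hR ha))
        · exact htr (T.uniq_n t ht h)
      exact centralizer_le_normalizer _
        (mem_centralizer_iff.mpr fun b _ => mem_center_iff.mp haz b)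
    exact (relIndex_eq_one.mp hR hg).2
  have hQall : ∀ g : G, PElt q g → g ∈ Q := fun g hg =>
    mem_full_of_normal hQ hQN (le_antisymm (card_le_pp hQ hQN) (hQc ▸ pp_le_top N)) hNn (hqN g hg) hg
  have hQcent : ∀ u : G, ind u = m → Q ≤ C[u] := by
    intro u hu
    obtain ⟨Q', hQ'u, hQ', hQ'c⟩ := exists_full q C[u]
    have e : Q' = Q := Subgroup.eq_of_le_of_card_ge (fun g hg => hQall g (pelt_of_mem hQ' hg))
      (by rw [hQc, hQ'c, S.pp_top hqm hu])
    exact e ▸ hQ'u
  have hx2w : x₂ ∈ C[w] := L₂.x_mem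
  have hxv : Commute x x₂ :=
    mem_cent.1 (hQcent x₂ L₂.x_ind (hQall x L₁.x_pelt))
  set u := x * x₂ with hu
  have huq : PElt q u := pelt_mul hxv L₁.x_pelt L₂.x_pelt
  have huZ : u ∉ center G := by
    intro hz
    have e : C[x] = C[x₂] := by
      have h1 : x₂ = x⁻¹ * u := by rw [hu, inv_mul_cancel_left]
      have hz' : ∀ g : G, g * u = u * g := fun g => mem_center_iff.mp hz g
      refine eq_of_ind (fun g hg => mem_cent.2 ?_) (L₁.x_ind.trans L₂.x_ind.symm)
      rw [h1]
      exact ((mem_cent.1 hg).inv_right).mul_right (hz' g)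
    exact hwH (e.ge (cent_symm hx2w))
  -- a `p`-element of `P` centralising `u`
  obtain ⟨s, hsP, hsu, hsZ⟩ : ∃ s ∈ (P : Subgroup G), Commute s u ∧ s ∉ center G := by
    obtain ⟨r, hru, hrp, hrZ⟩ := S.exists_pelt_mem T.dvd_m huZ
    obtain ⟨c, -, hc⟩ := exists_conj P.isPGroup' (le_top (a := (P : Subgroup G))) hPfull
      (pelt_zpowers hrp) le_top
    have hqi : ¬ q ∣ Q.relIndex ⊤ := not_dvd_relIndex le_top (hQc ▸ card_le_pp hQ le_rfl)
    set E := (P : Subgroup G) ⊔ center G with hE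
    have hEn : E ≤ normalizer ((P : Subgroup G) : Set G) := sup_le le_normalizer
      (le_trans (fun a ha => mem_centralizer_iff.mpr fun b _ => mem_center_iff.mp ha b)
        (centralizer_le_normalizer _))
    obtain ⟨t, ht, d, hd, hctd⟩ := exists_mul (T := Q) (D := E) le_top le_top (g := c⁻¹) (by
      refine Nat.coprime_of_dvd fun r hr hr1 hr2 => ?_
      haveI := Fact.mk hr
      refine hqi ?_
      suffices r = q from this ▸ hr1
      by_contra hrq
      refine not_dvd_relIndex (le_top : E ≤ ⊤) ?_ hr2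
      by_cases hrp : r = p
      · subst hrp
        rw [← hPfull]
        exact card_le_pp P.isPGroup' le_sup_left
      obtain ⟨R, -, hR, hRc⟩ := exists_full r (⊤ : Subgroup G)
      rw [← hRc]
      refine card_le_pp hR fun a ha => mem_sup_right ?_
      by_contra haZ
      rcases S.prime_cases (pelt_of_mem hR ha) haZ with h | h
      · exact hrp (T.uniq_m r hr h)
      · exact hrq (T.uniq_n r hr h)) (mem_top _)
    refine ⟨t⁻¹ * r * t, ?_, ?_, ?_⟩
    · have h1 := (mem_normalizer_iff.mp (hEn hd) _).mp (hc r (mem_zpowers r))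
      have e : t⁻¹ * r * t = d * (c * r * c⁻¹) * d⁻¹ := by
        rw [show c = d⁻¹ * t⁻¹ by rw [← mul_inv_rev, ← hctd, inv_inv]]
        group
      rw [e]
      exact h1
    · have htu : Commute t u :=
        (mem_cent.1 (hQcent x L₁.x_ind ht)).mul_right (mem_cent.1 (hQcent x₂ L₂.x_ind ht))
      exact ((htu.inv_left).mul_left (mem_cent.1 hru)).mul_left htu
    · intro hz
      have := (inferInstance : (center G).Normal).conj_mem _ hz t
      exact hrZ (by simpa [mul_assoc] using this)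
  set A₂ := (P : Subgroup G) ⊓ C[w] with hA₂
  have hA₂p : IsPGroup p A₂ := P.isPGroup'.to_le inf_le_left
  have hconjA : ∀ (y₁ : G), y₁ ∈ (P : Subgroup G) → ∀ g ∈ (P : Subgroup G),
      ∀ a ∈ (P : Subgroup G) ⊓ C[y₁], g * a * g⁻¹ ∈ (P : Subgroup G) ⊓ C[y₁] := fun y₁ hy₁ g hg a ha =>
    mem_inf.mpr ⟨mul_mem (mul_mem hg ha.1) (inv_mem hg), (conj_mem_cent (hcc g hg y₁ hy₁)).mpr ha.2⟩
  have hxc : ∀ d ∈ D, Commute d x := fun d hd => mem_cent.1 (L₁.K_le (L₁.le_K hd))
  have hx2c : ∀ d ∈ C[w], Commute d x₂ := fun d hd => mem_cent.1 (L₂.K_le (L₂.le_K hd))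
  by_cases hsD : s ∈ D
  · -- then `x₂` commutes with `A` and `w`
    obtain ⟨-, huniq⟩ := hspan s hsP hsZ
    have hy_s : y ∈ zpowers s ⊔ Zp := by
      have h1 : zpowers s ⊔ Zp ⊔ zpowers y = zpowers s ⊔ Zp :=
        huniq _ (sup_le (sup_le (zpowers_le.mpr ⟨hsP, self_mem_cent s⟩)
          (le_inf inf_le_right (inf_le_left.trans (center_le_cent s))))
          (zpowers_le.mpr ⟨hyP, cent_symm hsD⟩)) le_sup_left
      exact h1.le (mem_sup_right (mem_zpowers y))
    have hsx₂ : Commute s x₂ := by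
      have e : x₂ = x⁻¹ * u := by rw [hu, inv_mul_cancel_left]
      rw [e]
      exact ((hxc s hsD).inv_right).mul_right hsu
    have hy_x₂ : x₂ ∈ D := by
      have h2 : zpowers s ⊔ Zp ≤ C[x₂] := sup_le (zpowers_le.mpr (mem_cent.2 hsx₂))
        (inf_le_left.trans (center_le_cent x₂))
      exact cent_symm (h2 hy_s)
    have hAx₂ : A ≤ C[x₂] := fun a ha =>
      central_coprime S hy hpe hy_x₂ (pelt_coprime_prime hpq.symm L₂.x_pelt) ha.2
    exact hwD (mem_full hAp hAx₂ (hppC (S.not_center_of_ind (Or.inl L₂.x_ind))).symm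
      (mem_cent.2 (hx2c w (self_mem_cent w))) hwpe (hconjA y hyP w hwP)).2
  by_cases hsw : s ∈ C[w]
  · obtain ⟨-, huniq⟩ := hspan s hsP hsZ
    have hw_s : w ∈ zpowers s ⊔ Zp := by
      have h1 : zpowers s ⊔ Zp ⊔ zpowers w = zpowers s ⊔ Zp :=
        huniq _ (sup_le (sup_le (zpowers_le.mpr ⟨hsP, self_mem_cent s⟩)
          (le_inf inf_le_right (inf_le_left.trans (center_le_cent s))))
          (zpowers_le.mpr ⟨hwP, cent_symm hsw⟩)) le_sup_left
      exact h1.le (mem_sup_right (mem_zpowers w))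
    have hsx : Commute s x := by
      have e : x = u * x₂⁻¹ := by rw [hu, mul_inv_cancel_right]
      rw [e]
      exact hsu.mul_right (hx2c s hsw).inv_right
    have h2 : zpowers s ⊔ Zp ≤ C[x] := sup_le (zpowers_le.mpr (mem_cent.2 hsx))
      (inf_le_left.trans (center_le_cent x))
    exact hwH (h2 hw_s)
  set c := s * x * s⁻¹ * x⁻¹ with hcdef
  have hcx : s * x * s⁻¹ = c * x := by rw [hcdef]; group
  have hc2 : c = x₂ * (s * x₂ * s⁻¹)⁻¹ := by
    have e1 : (s * x * s⁻¹) * (s * x₂ * s⁻¹) = x * x₂ := by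
      calc (s * x * s⁻¹) * (s * x₂ * s⁻¹) = s * u * s⁻¹ := by rw [hu]; group
        _ = u := by rw [hsu.eq, mul_inv_cancel_right]
    have e2 : s * x * s⁻¹ = x * x₂ * (s * x₂ * s⁻¹)⁻¹ := by rw [← e1]; group
    have hQc' : ∀ g ∈ Q, Commute g x := fun g hg => mem_cent.1 (hQcent x L₁.x_ind hg)
    have hmem : x₂ * (s * x₂ * s⁻¹)⁻¹ ∈ Q :=
      mul_mem (hQall _ L₂.x_pelt) (inv_mem (hQall _ (pelt_conj s L₂.x_pelt)))
    rw [hcdef, e2, mul_assoc x, ← (hQc' _ hmem).eq, mul_inv_cancel_right]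
  have hcQ : c ∈ Q := by
    rw [hc2]
    exact mul_mem (hQall _ L₂.x_pelt) (inv_mem (hQall _ (pelt_conj s L₂.x_pelt)))
  have hcy : ∀ a ∈ A, Commute a c := by
    intro a ha
    have hs' : s⁻¹ * a * s ∈ A := by
      have h0 := hconjA y hyP s⁻¹ (inv_mem hsP) a ha
      rwa [inv_inv] at h0
    have h1 : Commute a (s * x * s⁻¹) := by
      have := hxc _ hs'.2
      have e1 : a * (s * x * s⁻¹) = s * (s⁻¹ * a * s * x) * s⁻¹ := by group
      show a * (s * x * s⁻¹) = s * x * s⁻¹ * a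
      rw [e1, this.eq]
      group
    exact h1.mul_right (hxc a ha.2).inv_right
  have hcw : Commute w c := by
    rw [hc2]
    have hs' : s⁻¹ * w * s ∈ A₂ := by
      have h0 := hconjA w hwP s⁻¹ (inv_mem hsP) w ⟨hwP, self_mem_cent w⟩
      rwa [inv_inv] at h0
    have h1 : Commute w (s * x₂ * s⁻¹) := by
      have := hx2c _ hs'.2
      have e1 : w * (s * x₂ * s⁻¹) = s * (s⁻¹ * w * s * x₂) * s⁻¹ := by group
      show w * (s * x₂ * s⁻¹) = s * x₂ * s⁻¹ * w
      rw [e1, this.eq]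
      group
    exact (hx2c w (self_mem_cent w)).mul_right h1.inv_right
  have hcZ : c ∈ center G := by
    by_contra hcZ
    exact hwD (mem_full hAp (fun a ha => mem_cent.2 (hcy a ha)) (hppC hcZ).symm
      (mem_cent.2 hcw) hwpe (hconjA y hyP w hwP)).2
  have hsx := commute_of_conj_eq hcx (mem_center_iff.mp hcZ s) (mem_center_iff.mp hcZ x)
    (pelt_coprime hpq (pelt_of_mem P.isPGroup' hsP) L₁.x_pelt)
  exact hsD (L₁.x_inf.le ⟨hsP, mem_cent.2 hsx⟩).2

theorem conclusion {S : Sizes G m n} : Conclusion G m n := by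
  classical
  by_cases hall : NoP G m n
  swap
  · simp only [NoP] at hall
    push Not at hall
    obtain ⟨p, hp, hpm, y, hyp, hyZ, hy⟩ := hall
    haveI := Fact.mk hp
    exact conclusion_of_central
      (centralParts_of_pelt S hpm hyp ((S.cases' hyZ).resolve_right hy))
  exfalso
  obtain ⟨r, hr, hrdvd, x, hxr, hx⟩ := S.exists_pelt_ind_m
  haveI := Fact.mk hr
  have hrn : r ∣ n := hrdvd.resolve_left fun hrm => S.m_lt_mn.ne
    (hx.symm.trans (hall r hr hrm x hxr (S.not_center_of_ind (Or.inl hx))))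
  obtain ⟨p, hp, hpm⟩ := Nat.exists_prime_and_dvd S.one_lt_m.ne'
  haveI := Fact.mk hp
  exact twoPrime_false (S := S) (p := p) (q := r)
    { hp := hp
      hq := hr
      dvd_m := hpm
      dvd_n := hrn
      uniq_m := fun s hs hsm => by haveI := Fact.mk hs; exact prime_m_unique S hall hsm hpm
      uniq_n := fun t ht htn => by
        haveI := Fact.mk ht
        exact (prime_n_unique' S hall hpm hrn htn hxr hx).symm
      noP := hall
      witness := ⟨x, hxr, hx⟩ }

end Cfsg.Agent.Fg24.Sizes1mn
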