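import Cfsg.Agent.Fg24.Sizes1mn.Act
import Cfsg.Agent.TwoClassSizes.Main
import Cfsg.Agent.ClassGraph.Split
import Cfsg.Agent.ClassGraph.Coprime

/-!
# Generic lemmas for class sizes `1`, `m`, `m * n`
-/

set_option autoImplicit false

open Subgroup
open scoped Pointwise

namespace Cfsg.Agent.Fg24.Sizes1mn

variable {G : Type*} [Group G]

/-- `g` has `p`-power order. -/
def PElt (p : ℕ) (g : G) : Prop := ∃ k, orderOf g ∣ p ^ k

/-- The order of a Sylow `p`-subgroup of `H`. -/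
noncomputable def pp (p : ℕ) (H : Subgroup G) : ℕ := p ^ (Nat.card H).factorization p

theorem pelt_conj {p : ℕ} {g : G} (x : G) (h : PElt p g) : PElt p (x * g * x⁻¹) := by
  obtain ⟨k, hk⟩ := h
  exact ⟨k, by rw [← MulAut.conj_apply, MulEquiv.orderOf_eq]; exact hk⟩

theorem pelt_of_mem {p : ℕ} [Fact p.Prime] {S : Subgroup G} (hS : IsPGroup p S) {g : G}
    (hg : g ∈ S) : PElt p g := by
  obtain ⟨k, hk⟩ := IsPGroup.iff_orderOf.1 hS ⟨g, hg⟩
  exact ⟨k, by rw [Subgroup.orderOf_mk] at hk; exact hk.dvd⟩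

theorem pelt_zpowers {p : ℕ} [Fact p.Prime] {g : G} (hg : PElt p g) :
    IsPGroup p (zpowers g) := by
  obtain ⟨k, hk⟩ := hg
  obtain ⟨j, -, hj⟩ := (Nat.dvd_prime_pow Fact.out).1 hk
  exact IsPGroup.of_card (n := j) (by rw [Nat.card_zpowers, hj])

theorem pelt_coprime {p q : ℕ} [hp : Fact p.Prime] [hq : Fact q.Prime] (hpq : p ≠ q) {a b : G}
    (ha : PElt p a) (hb : PElt q b) : (orderOf a).Coprime (orderOf b) := by
  obtain ⟨i, hi⟩ := ha
  obtain ⟨j, hj⟩ := hb
  exact (Nat.Coprime.pow i j ((Nat.coprime_primes hp.out hq.out).2 hpq)).coprime_dvd_left hi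
    |>.coprime_dvd_right hj

theorem pelt_coprime_prime {p q : ℕ} [hp : Fact p.Prime] [hq : Fact q.Prime] (hpq : p ≠ q) {a : G}
    (ha : PElt p a) : (orderOf a).Coprime q := by
  obtain ⟨i, hi⟩ := ha
  exact (((Nat.coprime_primes hp.out hq.out).2 hpq).pow_left i).coprime_dvd_left hi

theorem pelt_eq_one {p q : ℕ} [Fact p.Prime] [Fact q.Prime] (hpq : p ≠ q) {a : G}
    (ha : PElt p a) (hb : PElt q a) : a = 1 :=
  orderOf_eq_one_iff.1 ((Nat.coprime_self _).1 (pelt_coprime hpq ha hb))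

theorem pelt_eq_one_of_coprime {p : ℕ} {x : G} (hx : PElt p x) (hc : (orderOf x).Coprime p) :
    x = 1 := by
  obtain ⟨k, hk⟩ := hx
  exact orderOf_eq_one_iff.1
    ((Nat.coprime_self _).1 ((hc.symm.pow_left k).coprime_dvd_left hk))

theorem pelt_pow {p : ℕ} {g : G} (h : PElt p g) (i : ℕ) : PElt p (g ^ i) := by
  obtain ⟨k, hk⟩ := h
  exact ⟨k, (orderOf_pow_dvd i).trans hk⟩

theorem pelt_mul {p : ℕ} [Fact p.Prime] {g h : G} (hc : Commute g h) (hg : PElt p g)
    (hh : PElt p h) : PElt p (g * h) := by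
  obtain ⟨i, hi⟩ := hg
  obtain ⟨j, hj⟩ := hh
  refine ⟨i + j, (hc.orderOf_mul_dvd_mul_orderOf).trans ?_⟩
  rw [pow_add]
  exact mul_dvd_mul hi hj

theorem pelt_inv {p : ℕ} {g : G} (h : PElt p g) : PElt p g⁻¹ := by
  obtain ⟨k, hk⟩ := h
  exact ⟨k, by rwa [orderOf_inv]⟩

theorem pelt_one (p : ℕ) : PElt p (1 : G) := ⟨0, by simp⟩

theorem exists_parts [Finite G] (p : ℕ) [Fact p.Prime] (g : G) :
    ∃ a b : G, g = a * b ∧ Commute a b ∧ a ∈ zpowers g ∧ b ∈ zpowers g ∧ PElt p a ∧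
      (orderOf b).Coprime p := by
  obtain ⟨a, b, e, h1, h2, h3, h4, h5⟩ :=
    Fusion.exists_pPart_mul (p := p) g (isOfFinOrder_of_finite g)
  exact ⟨a, b, e, h1, h2, h3, h4, h5⟩

/-- A prime-power component outside a subgroup. -/
theorem exists_component_not_mem [Finite G] {K : Subgroup G} {g : G} (hg : g ∉ K) :
    ∃ r : ℕ, r.Prime ∧ ∃ a ∈ zpowers g, PElt r a ∧ a ∉ K := by
  by_contra hcon
  push Not at hcon
  refine hg (TwoClassSizes.le_of_primePow_mem (H := zpowers g) (K := K) ?_ (mem_zpowers g))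
  intro a ha r hr hk
  exact hcon r hr a ha hk

theorem card_mul_relIndex {H K : Subgroup G} (h : H ≤ K) :
    Nat.card H * H.relIndex K = Nat.card K := by
  rw [← relIndex_bot_left H, ← relIndex_bot_left K]
  exact relIndex_mul_relIndex _ _ _ bot_le h

theorem pp_dvd (p : ℕ) (H : Subgroup G) : pp p H ∣ Nat.card H := Nat.ordProj_dvd _ _

theorem pp_pos {p : ℕ} [hp : Fact p.Prime] (H : Subgroup G) : 0 < pp p H :=
  pow_pos hp.out.pos _

theorem pp_congr {p : ℕ} {H K : Subgroup G} (h : Nat.card H = Nat.card K) :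
    pp p H = pp p K := by
  rw [pp, pp, h]

variable [Finite G]

theorem card_dvd_pp {p : ℕ} [hp : Fact p.Prime] {S H : Subgroup G} (hS : IsPGroup p S)
    (hle : S ≤ H) : Nat.card S ∣ pp p H := by
  obtain ⟨i, hi⟩ := IsPGroup.iff_card.mp hS
  rw [hi]
  exact (Nat.Prime.pow_dvd_iff_dvd_ordProj hp.out Nat.card_pos.ne').1 (hi ▸ card_dvd_of_le hle)

theorem card_le_pp {p : ℕ} [Fact p.Prime] {S H : Subgroup G} (hS : IsPGroup p S)
    (hle : S ≤ H) : Nat.card S ≤ pp p H :=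
  Nat.le_of_dvd (pp_pos H) (card_dvd_pp hS hle)

/-- A `p`-subgroup of `H` lies in a full one. -/
theorem exists_full_ge {p : ℕ} [Fact p.Prime] {S₀ H : Subgroup G} (hS : IsPGroup p S₀)
    (hle : S₀ ≤ H) :
    ∃ S : Subgroup G, S₀ ≤ S ∧ S ≤ H ∧ IsPGroup p S ∧ Nat.card S = pp p H := by
  have h1 : IsPGroup p (S₀.subgroupOf H) := hS.of_equiv (subgroupOfEquivOfLe hle).symm
  obtain ⟨T, hT⟩ := h1.exists_le_sylow
  refine ⟨(T : Subgroup H).map H.subtype, ?_, map_subtype_le _, T.isPGroup'.map _, ?_⟩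
  · intro s hs
    exact ⟨⟨s, hle hs⟩, hT (mem_subgroupOf.mpr hs), rfl⟩
  · rw [card_map_of_injective H.subtype_injective, T.card_eq_multiplicity]
    rfl

theorem exists_full (p : ℕ) [Fact p.Prime] (H : Subgroup G) :
    ∃ S : Subgroup G, S ≤ H ∧ IsPGroup p S ∧ Nat.card S = pp p H := by
  obtain ⟨S, -, h⟩ := exists_full_ge (p := p) IsPGroup.of_bot (bot_le : ⊥ ≤ H)
  exact ⟨S, h⟩

/-- Two full `p`-subgroups of `H` are conjugate in `H`. -/
theorem exists_conj {p : ℕ} [Fact p.Prime] {S T H : Subgroup G} (hS : IsPGroup p S) (hSH : S ≤ H)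
    (hSc : Nat.card S = pp p H) (hT : IsPGroup p T) (hTH : T ≤ H) :
    ∃ c ∈ H, ∀ t ∈ T, c * t * c⁻¹ ∈ S := by
  have hS1 : IsPGroup p (S.subgroupOf H) := hS.of_equiv (subgroupOfEquivOfLe hSH).symm
  have hT1 : IsPGroup p (T.subgroupOf H) := hT.of_equiv (subgroupOfEquivOfLe hTH).symm
  obtain ⟨S', hS'⟩ := hS1.exists_le_sylow
  obtain ⟨T', hT'⟩ := hT1.exists_le_sylow
  obtain ⟨c, hc⟩ := MulAction.exists_smul_eq H T' S'
  refine ⟨c, c.2, fun t ht => ?_⟩
  have hSeq : S.subgroupOf H = (S' : Subgroup H) := by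
    refine Subgroup.eq_of_le_of_card_ge hS' (le_of_eq ?_)
    rw [S'.card_eq_multiplicity, Nat.card_congr (subgroupOfEquivOfLe hSH).toEquiv, hSc]
    rfl
  have h1 : MulAut.conj c • (⟨t, hTH ht⟩ : H) ∈ MulAut.conj c • (T' : Subgroup H) :=
    Subgroup.smul_mem_pointwise_smul _ _ _ (hT' (mem_subgroupOf.mpr ht))
  have e : ((c • T' : Sylow p H) : Subgroup H) = MulAut.conj c • (T' : Subgroup H) := rfl
  rw [← e, hc] at h1
  have h2 : MulAut.conj c • (⟨t, hTH ht⟩ : H) ∈ S.subgroupOf H := hSeq ▸ h1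
  exact mem_subgroupOf.mp h2

/-- A `p`-element normalising a full `p`-subgroup lies in it. -/
theorem mem_full {p : ℕ} [Fact p.Prime] {S H : Subgroup G} (hS : IsPGroup p S) (hSH : S ≤ H)
    (hSc : Nat.card S = pp p H) {g : G} (hg : g ∈ H) (hgp : PElt p g)
    (hn : ∀ s ∈ S, g * s * g⁻¹ ∈ S) : g ∈ S := by
  have hgn : g ∈ normalizer (S : Set G) :=
    mem_normalizer_iff_map_conj_eq.mpr (Subgroup.eq_of_le_of_card_ge
      (by rintro _ ⟨s, hs, rfl⟩; exact hn s hs)
      (by rw [card_map_of_injective (MulEquiv.injective _)]))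
  have hT : IsPGroup p (zpowers g ⊔ S : Subgroup G) :=
    (pelt_zpowers hgp).to_sup_of_normal_right' hS (zpowers_le.mpr hgn)
  have heq : S = zpowers g ⊔ S := Subgroup.eq_of_le_of_card_ge le_sup_right
    (hSc ▸ card_le_pp hT (sup_le (zpowers_le.mpr hg) hSH))
  rw [heq]
  exact mem_sup_left (mem_zpowers g)

/-- If the full `p`-subgroup `S` of `H` is normal in `H`, it holds all `p`-elements. -/
theorem mem_full_of_normal {p : ℕ} [Fact p.Prime] {S H : Subgroup G} (hS : IsPGroup p S)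
    (hSH : S ≤ H) (hSc : Nat.card S = pp p H) (hn : H ≤ normalizer (S : Set G)) {g : G}
    (hg : g ∈ H) (hgp : PElt p g) : g ∈ S :=
  mem_full hS hSH hSc hg hgp fun s hs => (mem_normalizer_iff.mp (hn hg) s).mp hs

/-- Subgroups of equal order: a `p`-element of one outside `Z₀` gives one in the other. -/
theorem exists_outside {p : ℕ} [Fact p.Prime] {Z₀ D₁ D₂ : Subgroup G} (h1 : Z₀ ≤ D₁)
    (hc : pp p D₁ ≤ pp p D₂) {z : G} (hz : z ∈ D₁) (hzp : PElt p z) (hzZ : z ∉ Z₀)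
    (hcomm : ∀ y ∈ Z₀, Commute z y) : ∃ u ∈ D₂, PElt p u ∧ u ∉ Z₀ := by
  obtain ⟨S, hSD, hS, hSc⟩ := exists_full p D₂
  by_contra hcon
  push Not at hcon
  have hSZ : S ≤ Z₀ := fun s hs => hcon s (hSD hs) (pelt_of_mem hS hs)
  have hgn : z ∈ normalizer (S : Set G) := by
    refine centralizer_le_normalizer _ (mem_centralizer_iff.mpr fun s hs => ?_)
    exact (hcomm s (hSZ hs)).symm.eq
  have hT : IsPGroup p (zpowers z ⊔ S : Subgroup G) :=
    (pelt_zpowers hzp).to_sup_of_normal_right' hS (zpowers_le.mpr hgn)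
  have hle := card_le_pp hT (sup_le (zpowers_le.mpr hz) (hSZ.trans h1))
  have heq : S = zpowers z ⊔ S :=
    Subgroup.eq_of_le_of_card_ge le_sup_right (hle.trans (hc.trans hSc.ge))
  exact hzZ (hSZ (heq ▸ mem_sup_left (mem_zpowers z)))

/-- A group is not the union of the conjugates of a proper subgroup. -/
theorem le_of_forall_conj_mem {T D : Subgroup G}
    (h : ∀ v ∈ T, ∃ t ∈ T, t * v * t⁻¹ ∈ D) : T ≤ D := by
  by_contra hne
  obtain ⟨x, hx⟩ := ClassGraph.exists_forall_conj_notMem (D.subgroupOf T) fun e => hne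
    (subgroupOf_eq_top.mp e)
  obtain ⟨t, ht, htv⟩ := h x x.2
  exact hx ⟨t, ht⟩ (mem_subgroupOf.mpr htv)

/-- Factorisation by subgroups of coprime relative index. -/
theorem exists_mul {T D L : Subgroup G} (hT : T ≤ L) (hD : D ≤ L)
    (h : (T.relIndex L).Coprime (D.relIndex L)) {g : G} (hg : g ∈ L) :
    ∃ t ∈ T, ∃ d ∈ D, g = t * d := by
  obtain ⟨u, hu, v, hv, e⟩ :=
    ClassGraph.exists_mul_of_coprime (H := T.subgroupOf L) (K := D.subgroupOf L) h ⟨g, hg⟩
  exact ⟨u, mem_subgroupOf.mp hu, v, mem_subgroupOf.mp hv, congrArg Subtype.val e⟩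

omit [Finite G] in
/-- Conjugation moves centralisers. -/
theorem conj_mem_centralizer {g x u : G} :
    g * u * g⁻¹ ∈ centralizer ({g * x * g⁻¹} : Set G) ↔ u ∈ centralizer ({x} : Set G) := by
  rw [mem_centralizer_singleton_iff, mem_centralizer_singleton_iff]
  constructor
  · intro h
    have h2 : g * (u * x) * g⁻¹ = g * (x * u) * g⁻¹ := by
      calc g * (u * x) * g⁻¹ = g * u * g⁻¹ * (g * x * g⁻¹) := by group
        _ = g * x * g⁻¹ * (g * u * g⁻¹) := h
        _ = g * (x * u) * g⁻¹ := by group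
    exact mul_left_cancel (mul_right_cancel h2)
  · intro h
    calc g * u * g⁻¹ * (g * x * g⁻¹) = g * (u * x) * g⁻¹ := by group
      _ = g * (x * u) * g⁻¹ := by rw [h]
      _ = g * x * g⁻¹ * (g * u * g⁻¹) := by group

omit [Finite G] in
theorem orderOf_conj' (g x : G) : orderOf (g * x * g⁻¹) = orderOf x :=
  (MulAut.conj g).orderOf_eq x

omit [Finite G] in
/-- If `g` moves `y` by an element commuting with both and the orders are coprime, `g` fixes `y`. -/
theorem commute_of_conj_eq {g y c : G} (h : g * y * g⁻¹ = c * y) (hg : Commute g c)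
    (hy : Commute y c) (hco : (orderOf g).Coprime (orderOf y)) : Commute g y := by
  have hit : ∀ k : ℕ, g ^ k * y * (g ^ k)⁻¹ = c ^ k * y := by
    intro k
    induction k with
    | zero => simp
    | succ k IH =>
      have e : g ^ (k + 1) * y * (g ^ (k + 1))⁻¹ = g * (g ^ k * y * (g ^ k)⁻¹) * g⁻¹ := by
        rw [pow_succ']; group
      rw [e, IH, show g * (c ^ k * y) * g⁻¹ = g * c ^ k * g⁻¹ * (g * y * g⁻¹) by group, h,
        (hg.pow_right k).eq, mul_inv_cancel_right, ← mul_assoc, ← pow_succ]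
  have h1 : c ^ orderOf g = 1 := by
    have := hit (orderOf g)
    rw [pow_orderOf_eq_one, inv_one, one_mul, mul_one, right_eq_mul] at this
    exact this
  have h2 : c ^ orderOf y = 1 := by
    have e : (g * y * g⁻¹) ^ orderOf y = 1 := by
      rw [conj_pow, pow_orderOf_eq_one, mul_one, mul_inv_cancel]
    rwa [h, hy.symm.mul_pow, pow_orderOf_eq_one, mul_one] at e
  have hc1 : c = 1 := by
    have := pow_gcd_eq_one.mpr ⟨h1, h2⟩
    rwa [hco.gcd_eq_one, pow_one] at this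
  rw [hc1, one_mul, mul_inv_eq_iff_eq_mul] at h
  exact h

section Conj

variable (M D B : Subgroup G)

/-- The data of an action of `M / D` on `B` by conjugation. -/
structure ConjData : Prop where
  normal : (D.subgroupOf M).Normal
  inv : ∀ g ∈ M, ∀ b ∈ B, g * b * g⁻¹ ∈ B
  cent : ∀ d ∈ D, d ∈ M → ∀ b ∈ B, Commute d b
  comm : ∀ a ∈ B, ∀ b ∈ B, Commute a b

variable {M D B}

/-- Conjugation as a homomorphism into the automorphisms of `B`. -/
def conjHom₀ (h : ConjData M D B) : M →* MulAut B where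
  toFun g :=
    { toFun := fun b => ⟨g * b * g⁻¹, h.inv g g.2 b b.2⟩
      invFun := fun b => ⟨(g : G)⁻¹ * b * g, by
        simpa using h.inv (g : G)⁻¹ (inv_mem g.2) b b.2⟩
      left_inv := fun b => Subtype.ext (by simp [mul_assoc])
      right_inv := fun b => Subtype.ext (by simp [mul_assoc])
      map_mul' := fun a b => Subtype.ext (by simp [mul_assoc]) }
  map_one' := MulEquiv.ext fun b => Subtype.ext (by simp)
  map_mul' a b := MulEquiv.ext fun x => Subtype.ext (by simp [mul_assoc])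

theorem conjHom₀_ker (h : ConjData M D B) : D.subgroupOf M ≤ (conjHom₀ h).ker := by
  intro d hd
  rw [MonoidHom.mem_ker]
  refine MulEquiv.ext fun b => Subtype.ext ?_
  show (d : G) * b * (d : G)⁻¹ = b
  rw [(h.cent d (mem_subgroupOf.mp hd) d.2 b b.2).eq, mul_inv_cancel_right]

/-- `M / D` acting on `B`. -/
def conjHom (h : ConjData M D B) [(D.subgroupOf M).Normal] :
    M ⧸ D.subgroupOf M →* MulAut B :=
  QuotientGroup.lift _ (conjHom₀ h) (conjHom₀_ker h)

theorem conjHom_apply (h : ConjData M D B) [(D.subgroupOf M).Normal] (g : M) (b : B) :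
    ((conjHom h (QuotientGroup.mk g) b : B) : G) = g * b * (g : G)⁻¹ := rfl

theorem conjHom_fix_iff (h : ConjData M D B) [(D.subgroupOf M).Normal] (g : M) (b : B) :
    conjHom h (QuotientGroup.mk g) b = b ↔ Commute (g : G) (b : G) := by
  rw [Subtype.ext_iff, conjHom_apply, mul_inv_eq_iff_eq_mul]
  rfl

omit [Finite G] in
theorem mk_ne_one {g : M} [(D.subgroupOf M).Normal] (hg : (g : G) ∉ D) :
    (QuotientGroup.mk g : M ⧸ D.subgroupOf M) ≠ 1 := fun e =>
  hg (mem_subgroupOf.mp ((QuotientGroup.eq_one_iff g).mp e))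

/-- Semiregular action with two witnesses. -/
theorem relIndex_eq_of_two (h : ConjData M D B) {Z₀ : Subgroup G}
    (hfix : ∀ g ∈ M, ∀ z ∈ Z₀, z ∈ B → Commute g z)
    (hmov : ∀ g ∈ M, g ∉ D → ∀ b ∈ B, Commute g b → b ∈ Z₀) {u : ℕ} [hu : Fact u.Prime]
    {h₀ : G} (h₀B : h₀ ∈ B) (h₀Z : h₀ ∉ Z₀) (h₀u : PElt u h₀)
    {h₁ : G} (h₁B : h₁ ∈ B) (h₁Z : h₁ ∉ Z₀) (h₁u : (orderOf h₁).Coprime u)
    (hdvd : u ∣ D.relIndex M) : D.relIndex M = u := by
  haveI := h.normal
  letI : CommGroup B := { (inferInstance : Group B) with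
    mul_comm := fun a b => Subtype.ext (h.comm a a.2 b b.2) }
  obtain ⟨k, hk⟩ := h₀u
  refine card_eq_prime_of_two (φ := conjHom h) (Z₀ := Z₀.subgroupOf B) ?_ ?_
    (h₀ := ⟨h₀, h₀B⟩) (fun e => h₀Z (mem_subgroupOf.mp e)) (k := k) ?_ hdvd
    (h₁ := ⟨h₁, h₁B⟩) (fun e => h₁Z (mem_subgroupOf.mp e)) (by rwa [Subgroup.orderOf_mk])
  · intro w z hz
    induction w using QuotientGroup.induction_on with
    | H g => exact (conjHom_fix_iff h g z).mpr (hfix g g.2 z (mem_subgroupOf.mp hz) z.2)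
  · intro w
    induction w using QuotientGroup.induction_on with
    | H g =>
      intro hw b hb
      refine mem_subgroupOf.mpr (hmov g g.2 (fun hD => hw ?_) b b.2 ((conjHom_fix_iff h g b).mp hb))
      exact (QuotientGroup.eq_one_iff g).mpr (mem_subgroupOf.mpr hD)
  · exact Subtype.ext (by simpa using orderOf_dvd_iff_pow_eq_one.mp hk)

/-- An exponent-`u` semiregular action has order at most `u`. -/
theorem relIndex_le_of_exponent (h : ConjData M D B) {Z₀ : Subgroup G} {u : ℕ}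
    [hu : Fact u.Prime] (hexp : ∀ g ∈ M, g ^ u ∈ D)
    (hmov : ∀ g ∈ M, g ∉ D → ∀ b ∈ B, Commute g b → b ∈ Z₀)
    {h₁ : G} (h₁B : h₁ ∈ B) (h₁Z : h₁ ∉ Z₀) (h₁u : (orderOf h₁).Coprime u) :
    D.relIndex M ≤ u := by
  haveI := h.normal
  letI : CommGroup B := { (inferInstance : Group B) with
    mul_comm := fun a b => Subtype.ext (h.comm a a.2 b b.2) }
  have key := card_le_of_exponent (φ := conjHom h) (Z₀ := Z₀.subgroupOf B) hu.out (U := ⊤)
    (fun w _ => by
      induction w using QuotientGroup.induction_on with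
      | H g =>
        rw [← QuotientGroup.mk_pow, QuotientGroup.eq_one_iff, mem_subgroupOf]
        exact hexp g g.2)
    (fun w _ => by
      induction w using QuotientGroup.induction_on with
      | H g =>
        intro hw b hb
        refine mem_subgroupOf.mpr
          (hmov g g.2 (fun hD => hw ?_) b b.2 ((conjHom_fix_iff h g b).mp hb))
        exact (QuotientGroup.eq_one_iff g).mpr (mem_subgroupOf.mpr hD))
    (h := ⟨h₁, h₁B⟩) (fun e => h₁Z (mem_subgroupOf.mp e)) (by rwa [Subgroup.orderOf_mk])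
  rw [Subgroup.card_top] at key
  exact key

/-- A prime-order element of the quotient lifts to an element of prime-power order. -/
theorem exists_pelt_lift [(D.subgroupOf M).Normal] {u : ℕ} [Fact u.Prime]
    {w : M ⧸ D.subgroupOf M} {j : ℕ} (hw : w ^ u ^ j = 1) {g : M}
    (hg : QuotientGroup.mk g = w) :
    ∃ a : M, QuotientGroup.mk a = w ∧ PElt u (a : G) ∧ (a : G) ∈ zpowers (g : G) := by
  obtain ⟨a, b, e, hab, ha, hb, hau, hbu⟩ := exists_parts u (g : G)
  have haM : a ∈ M := zpowers_le.mpr g.2 ha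
  have hbM : b ∈ M := zpowers_le.mpr g.2 hb
  refine ⟨⟨a, haM⟩, ?_, hau, ha⟩
  set f := QuotientGroup.mk' (D.subgroupOf M) with hf
  have e2 : g = ⟨a, haM⟩ * ⟨b, hbM⟩ := Subtype.ext e
  have hw2 : w = f ⟨a, haM⟩ * f ⟨b, hbM⟩ := by rw [← map_mul, ← e2]; exact hg.symm
  suffices hB : f ⟨b, hbM⟩ = 1 by rw [hw2, hB, mul_one]; rfl
  refine pelt_eq_one_of_coprime (p := u) ?_ ?_
  · obtain ⟨i, hi⟩ := hau
    have hA : f ⟨a, haM⟩ ^ u ^ i = 1 := by
      rw [← map_pow]
      have : (⟨a, haM⟩ : M) ^ u ^ i = 1 :=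
        Subtype.ext (by simpa using orderOf_dvd_iff_pow_eq_one.mp hi)
      rw [this, map_one]
    have hcm : Commute (f ⟨a, haM⟩) (f ⟨b, hbM⟩) := Commute.map (Subtype.ext hab.eq) f
    refine ⟨i + j, orderOf_dvd_of_pow_eq_one ?_⟩
    have h1 : (f ⟨a, haM⟩ * f ⟨b, hbM⟩) ^ u ^ (i + j) = 1 := by
      rw [← hw2, pow_add, mul_comm, pow_mul, hw, one_pow]
    rwa [hcm.mul_pow, show f ⟨a, haM⟩ ^ u ^ (i + j) = 1 by rw [pow_add, pow_mul, hA, one_pow],
      one_mul] at h1
  · refine Nat.Coprime.coprime_dvd_left (orderOf_map_dvd _ _) ?_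
    rwa [Subgroup.orderOf_mk]

end Conj

/-- A `p`-group outside of a smaller subgroup grows inside the normaliser. -/
theorem exists_normalizer_gt {p : ℕ} [Fact p.Prime] {S P : Subgroup G} (hP : IsPGroup p P)
    (hle : S ≤ P) (hne : S ≠ P) :
    ∃ g ∈ P, g ∉ S ∧ ∀ s ∈ S, g * s * g⁻¹ ∈ S := by
  haveI := hP.isNilpotent
  have hlt : S.subgroupOf P < ⊤ := lt_top_iff_ne_top.mpr fun e =>
    hne (le_antisymm hle (subgroupOf_eq_top.mp e))
  obtain ⟨g, hg, hgn⟩ := SetLike.exists_of_lt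
    (normalizerCondition_of_isNilpotent _ hlt)
  refine ⟨g, g.2, fun h => hgn (mem_subgroupOf.mpr h), fun s hs => ?_⟩
  have := (mem_normalizer_iff.mp hg ⟨s, hle hs⟩).mp (mem_subgroupOf.mpr hs)
  exact mem_subgroupOf.mp this

end Cfsg.Agent.Fg24.Sizes1mn
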