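import Cfsg.Agent.Fg24.Sizes1mn.CaseQ

/-!
# The two-prime case: an element of the second centre of a Sylow subgroup
-/

set_option autoImplicit false

open Subgroup

namespace Cfsg.Agent.Fg24.Sizes1mn

variable {G : Type*} [Group G] [Finite G] {m n : ℕ}

local notation "C[" x "]" => Subgroup.centralizer ({x} : Set G)

/-- The standing hypotheses of the two-prime case. -/
structure TwoPrime (S : Sizes G m n) (p q : ℕ) : Prop where
  hp : p.Prime
  hq : q.Prime
  dvd_m : p ∣ m
  dvd_n : q ∣ n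
  uniq_m : ∀ r : ℕ, r.Prime → r ∣ m → r = p
  uniq_n : ∀ r : ℕ, r.Prime → r ∣ n → r = q
  noP : NoP G m n
  witness : ∃ x : G, PElt q x ∧ ind x = m

/-- The data attached to an element `y` of second central type. -/
structure LineData (p q : ℕ) (m : ℕ) (P : Subgroup G) (y x : G) (K : Subgroup G) : Prop where
  card_inf : Nat.card (P ⊓ C[y] : Subgroup G) = pp p C[y]
  relIndex : (C[y]).relIndex P = p
  x_pelt : PElt q x
  x_mem : x ∈ C[y]
  x_ind : ind x = m
  x_inf : P ⊓ C[x] = P ⊓ C[y]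
  K_normal : K.Normal
  le_K : C[y] ≤ K
  K_le : K ≤ C[x]
  detect : ∀ w ∈ P, w ∉ C[y] → ∀ g : G, PElt q g → Commute g w → g ∈ K

variable {S : Sizes G m n} {p q : ℕ} [hp : Fact p.Prime] [hq : Fact q.Prime]

theorem TwoPrime.coprime_n (T : TwoPrime S p q) : p ≠ q := S.fact_ne hp.out T.dvd_m T.dvd_n

/-- Every centraliser has a non-central `q`-element. -/
theorem TwoPrime.exists_qelt (T : TwoPrime S p q) {g : G} (hg : ind g = m * n) :
    ∃ v ∈ C[g], PElt q v ∧ v ∉ center G := by
  obtain ⟨x, hxq, hx⟩ := T.witness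
  obtain ⟨y, hyx, hyp, hyZ⟩ := S.exists_pelt_mem T.dvd_m (S.not_center_of_ind (Or.inl hx))
  exact exists_outside (center_le_cent y)
    (Sizes.pp_ind ((T.noP p hp.out T.dvd_m y hyp hyZ).trans hg.symm)).le (cent_symm hyx) hxq
    (S.not_center_of_ind (Or.inl hx)) fun z hz => mem_center_iff.mp hz x

/-- Construction of the data. -/
theorem exists_lineData (T : TwoPrime S p q) (P : Sylow p G) {y : G} (hyP : y ∈ (P : Subgroup G))
    (hyZ : y ∉ center G) (hyp : y ^ p ∈ center G)
    (hyc : ∀ s ∈ (P : Subgroup G), s * y * s⁻¹ * y⁻¹ ∈ center G) :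
    m = p ∧ ∃ x : G, ∃ K : Subgroup G, LineData p q m (P : Subgroup G) y x K := by
  classical
  have hpq : p ≠ q := T.coprime_n
  have hpe := pelt_of_mem P.isPGroup' hyP
  have hy := T.noP p hp.out T.dvd_m y hpe hyZ
  set D := C[y] with hD
  have hPD : ∀ s ∈ (P : Subgroup G), ∀ d ∈ D, s * d * s⁻¹ ∈ D := fun s hs d hd =>
    (conj_mem_cent (hyc s hs)).mpr hd
  set A := (P : Subgroup G) ⊓ D with hA
  have hAp : IsPGroup p A := P.isPGroup'.to_le inf_le_left
  have hPtop : Nat.card (P : Subgroup G) = pp p (⊤ : Subgroup G) := by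
    rw [P.card_eq_multiplicity, pp, Subgroup.card_top]
  have hAc : Nat.card A = pp p D := by
    refine le_antisymm (card_le_pp hAp inf_le_right) ?_
    obtain ⟨T₀, hT₀D, hT₀, hT₀c⟩ := exists_full p D
    have hPN : (P : Subgroup G) ≤ normalizer (D : Set G) := fun s hs =>
      mem_normalizer_iff.mpr fun u => (conj_mem_cent (hyc s hs)).symm
    set E := (P : Subgroup G) ⊔ D with hE
    have h1 : Nat.card D * D.relIndex (P : Subgroup G) = Nat.card E := by
      have h2 : D.relIndex (P : Subgroup G) = D.relIndex E := by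
        haveI : (D.subgroupOf E).Normal :=
          normal_of_conj fun g hg d hd =>
            ((mem_normalizer_iff.mp (sup_le hPN le_normalizer hg)) d).mp hd
        have e : (P : Subgroup G).subgroupOf E ⊔ D.subgroupOf E = ⊤ := by
          rw [← Subgroup.subgroupOf_sup le_sup_left le_sup_right, subgroupOf_self]
        rw [← relIndex_subgroupOf (le_sup_left : (P : Subgroup G) ≤ E) (H := D),
          ← relIndex_sup_right, e, relIndex_top_right]
        rfl
      rw [h2, card_mul_relIndex le_sup_right]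
    have h3 : Nat.card A * D.relIndex (P : Subgroup G) = Nat.card (P : Subgroup G) := by
      rw [← inf_relIndex_left (P : Subgroup G) D, card_mul_relIndex inf_le_left]
    obtain ⟨i, -, hi⟩ := (Nat.dvd_prime_pow hp.out).mp
      (show D.relIndex (P : Subgroup G) ∣ p ^ (Nat.card G).factorization p from
        P.card_eq_multiplicity ▸ relIndex_dvd_card D _)
    have h4 : pp p D * D.relIndex (P : Subgroup G) ∣ Nat.card E := h1 ▸ Nat.mul_dvd_mul_right (pp_dvd p D) _
    obtain ⟨j, hj⟩ : ∃ j, pp p D = p ^ j := ⟨_, rfl⟩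
    have h5 : pp p D * D.relIndex (P : Subgroup G) ∣ pp p E := by
      rw [hi, hj, ← pow_add] at h4 ⊢
      exact (Nat.Prime.pow_dvd_iff_dvd_ordProj hp.out Nat.card_pos.ne').1 h4
    have h6 := (Nat.le_of_dvd (pp_pos E) h5).trans (pp_le_top E)
    rw [← hPtop, ← h3] at h6
    exact Nat.le_of_mul_le_mul_right h6 (Nat.pos_of_ne_zero index_ne_zero_of_finite)
  have hAn : ∀ s ∈ (P : Subgroup G), ∀ a ∈ A, s * a * s⁻¹ ∈ A := fun s hs a ha =>
    mem_inf.mpr ⟨mul_mem (mul_mem hs ha.1) (inv_mem hs), hPD s hs a ha.2⟩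
  have hqc : ∀ g ∈ D, PElt q g → D ≤ C[g] := fun g hg hgq =>
    central_coprime S hy hpe hg (pelt_coprime_prime hpq.symm hgq)
  -- `p`-elements of `P` outside `A` move the `q`-elements
  have hmove : ∀ g ∈ (P : Subgroup G), ∀ b ∈ D, PElt q b → b ∉ center G → Commute g b → g ∈ D := by
    intro g hg b hb hbq hbZ hc
    refine (mem_full hAp (fun a ha => mem_cent.2 (mem_cent.1 (hqc b hb hbq ha.2)))
      (hAc.trans (S.pp_eq T.dvd_m hyZ hbZ)) (mem_cent.2 hc)
      (pelt_of_mem P.isPGroup' hg) (hAn g hg)).2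
  have hyD : ¬ (P : Subgroup G) ≤ D := fun hle => hyZ (S.center_of_le T.dvd_m P hle)
  have hexp : ∀ g ∈ (P : Subgroup G), g ^ p ∈ D := by
    intro g hg
    set c := g * y * g⁻¹ * y⁻¹ with hc
    have hcz : ∀ h : G, h * c = c * h := fun h => mem_center_iff.mp (hyc g hg) h
    have hgy : g * y * g⁻¹ = c * y := by rw [hc]; group
    have hcp : c ^ p = 1 := by
      have h2 : (c * y) ^ p = y ^ p := by
        rw [← hgy, conj_pow, mem_center_iff.mp hyp g, mul_inv_cancel_right]
      rwa [(show Commute c y from (hcz y).symm).mul_pow, mul_eq_right] at h2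
    have hit : ∀ k : ℕ, g ^ k * y * (g ^ k)⁻¹ = c ^ k * y := by
      intro k
      induction k with
      | zero => simp
      | succ k IH =>
        have e : g ^ (k + 1) * y * (g ^ (k + 1))⁻¹ = g * (g ^ k * y * (g ^ k)⁻¹) * g⁻¹ := by
          rw [pow_succ']; group
        rw [e, IH, show g * (c ^ k * y) * g⁻¹ = g * c ^ k * g⁻¹ * (g * y * g⁻¹) by group, hgy,
          ((show Commute g c from hcz g).pow_right k).eq, mul_inv_cancel_right, ← mul_assoc,
          ← pow_succ]
    refine mem_cent.2 (mul_inv_eq_iff_eq_mul.mp ?_)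
    rw [hit, hcp, one_mul]
  set B := primePart q D fun a ha b hb _ hbq => mem_cent.1 (hqc b hb hbq ha) with hB
  have hdat : ConjData (P : Subgroup G) D B :=
    ⟨normal_of_conj hPD, fun g hg b hb => ⟨hPD g hg b hb.1, pelt_conj g hb.2⟩,
      fun d hd _ b hb => mem_cent.1 (hqc b hb.1 hb.2 hd),
      fun a ha b hb => mem_cent.1 (hqc b hb.1 hb.2 ha.1)⟩
  obtain ⟨v, hvD, hvq, hvZ⟩ := T.exists_qelt hy
  have hrel : D.relIndex (P : Subgroup G) = p := by
    have h1 := relIndex_le_of_exponent hdat (Z₀ := center G) (u := p) hexp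
      (fun g hg hgD b hb hc => by
        by_contra hbZ
        exact hgD (hmove g hg b hb.1 hb.2 hbZ hc))
      (h₁ := v) ⟨hvD, hvq⟩ hvZ (pelt_coprime_prime hpq.symm hvq)
    obtain ⟨i, -, hi⟩ := (Nat.dvd_prime_pow hp.out).mp
      (show D.relIndex (P : Subgroup G) ∣ p ^ (Nat.card G).factorization p from
        P.card_eq_multiplicity ▸ relIndex_dvd_card D _)
    rcases i with _ | _ | i
    · exact absurd (relIndex_eq_one.mp (by simpa using hi)) hyD
    · simpa using hi
    · exfalso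
      have h2 := Nat.pow_le_pow_right hp.out.pos (show 2 ≤ i + 1 + 1 by omega)
      have h3 := hp.out.two_le
      rw [hi] at h1
      nlinarith
  have hfac : m.factorization p = 1 := by
    have h3 : Nat.card A * D.relIndex (P : Subgroup G) = Nat.card (P : Subgroup G) := by
      rw [← inf_relIndex_left (P : Subgroup G) D, card_mul_relIndex inf_le_left]
    rw [hrel, hAc, hPtop, ← pp_mul p D, show D.index = m * n from hy, S.fact_mn hp.out T.dvd_m] at h3
    have := Nat.eq_of_mul_eq_mul_left (pp_pos D) h3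
    exact ((Nat.pow_right_injective hp.out.two_le) (this.symm.trans (pow_one p).symm))
  have hmp : m = p := by
    have hm := Nat.eq_prime_pow_of_unique_prime_dvd S.m_pos.ne' fun {r} hr hd => T.uniq_m r hr hd
    obtain ⟨i, hi⟩ : ∃ i, m = p ^ i := ⟨_, hm⟩
    rw [hi, Nat.factorization_pow, Finsupp.smul_apply, hp.out.factorization_self, smul_eq_mul,
      mul_one] at hfac
    rw [hi, hfac, pow_one]
  refine ⟨hmp, ?_⟩
  -- a `q`-element of class size `m` in `D`
  obtain ⟨x, hxD, hxq, hx⟩ : ∃ x ∈ D, PElt q x ∧ ind x = m := by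
    by_contra hcon
    push Not at hcon
    have hsameq : ∀ b ∈ D, PElt q b → b ∉ center G → C[b] = D := fun b hb hbq hbZ =>
      (eq_of_ind (x := y) (y := b) (hqc b hb hbq)
        (hy.trans ((S.cases' hbZ).resolve_left fun e => hcon b hb hbq e).symm)).symm
    have hCv := hsameq v hvD hvq hvZ
    have hvmn : ind v = m * n := by rw [ind, hCv]; exact hy
    have hab := abelian_of_pair S (D := D) (p := p)
      (fun g hg hgp => central_coprime S hy hpe hg hgp)
      (fun g hg hgp => hCv ▸ central_coprime S hvmn hvq (hCv.symm ▸ hg) (pelt_coprime_prime hpq hgp))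
    have hsamep : ∀ b ∈ D, PElt p b → b ∉ center G → C[b] = D := fun b hb hbp hbZ =>
      (eq_of_ind (x := y) (y := b) (fun u hu => mem_cent.2 (hab u hu b hb))
        (hy.trans (T.noP p hp.out T.dvd_m b hbp hbZ).symm)).symm
    set M := normalizer (D : Set G) with hM
    have hnorm : ∀ g ∈ M, ∀ d ∈ D, g * d * g⁻¹ ∈ D := fun g hg d hd =>
      (mem_normalizer_iff.mp hg d).mp hd
    have hdat' : ConjData M D D := ⟨normal_of_conj hnorm, fun g hg b hb => hnorm g hg b hb,
      fun d hd _ b hb => hab d hd b hb, hab⟩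
    have hmov : ∀ g ∈ M, g ∉ D → ∀ b ∈ D, Commute g b → b ∈ center G := by
      intro g _ hgD b hb hc
      by_contra hbZ
      obtain ⟨r, hr, a, ha, har, haZ⟩ := exists_component_not_mem hbZ
      haveI := Fact.mk hr
      have haD : a ∈ D := zpowers_le.mpr hb ha
      have e : C[a] = D := by
        rcases S.prime_cases har haZ with h | h
        · exact hsamep a haD (T.uniq_m r hr h ▸ har) haZ
        · exact hsameq a haD (T.uniq_n r hr h ▸ har) haZ
      exact hgD (e.le (cent_le_of_mem_zpowers ha (mem_cent.2 hc)))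
    have e1 := dvd_relIndex_normalizer S hy hpe (dvd_mul_of_dvd_left T.dvd_m n)
      (fun g hg _ a ha => hab a ha g hg) hsamep
    have e2 := dvd_relIndex_normalizer S hvmn hvq (dvd_mul_of_dvd_right T.dvd_n m)
      (fun g hg _ a ha => hab a (hCv ▸ ha) g (hCv ▸ hg))
      (fun g hg hgq hgZ => (hsameq g (hCv ▸ hg) hgq hgZ).trans hCv.symm)
    rw [hCv] at e2
    rw [relIndex_eq_of_two hdat' (fun g _ u hu _ => mem_center_iff.mp hu g) hmov (u := p)
      (h₀ := y) (self_mem_cent y) hyZ hpe (h₁ := v) hvD hvZ (pelt_coprime_prime hpq.symm hvq) e1]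
      at e2
    exact hpq ((Nat.prime_dvd_prime_iff_eq hq.out hp.out).mp e2).symm
  set H := C[x] with hH
  have hDH : D ≤ H := hqc x hxD hxq
  have hPH : (P : Subgroup G) ⊓ H = A := by
    refine (Subgroup.eq_of_le_of_card_ge (inf_le_inf_left _ hDH) ?_).symm
    rw [hAc, S.pp_eq T.dvd_m hyZ (S.not_center_of_ind (Or.inl hx))]
    exact card_le_pp (P.isPGroup'.to_le inf_le_left) inf_le_right
  let K : Subgroup G :=
    { carrier := {g | ∀ u : G, Commute g (u * x * u⁻¹)}
      one_mem' := fun u => Commute.one_left _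
      mul_mem' := fun {a b} ha hb u => (ha u).mul_left (hb u)
      inv_mem' := fun {a} ha u => (ha u).inv_left }
  have hKn : K.Normal := ⟨fun k hk g u => by
    have h := hk (g⁻¹ * u)
    have h1 : g * k * g⁻¹ * (u * x * u⁻¹) = g * (k * (g⁻¹ * u * x * (g⁻¹ * u)⁻¹)) * g⁻¹ := by group
    show g * k * g⁻¹ * (u * x * u⁻¹) = _
    rw [h1, h.eq]
    group⟩
  have hKH : K ≤ H := fun k hk => by
    have := hk 1
    rw [one_mul, inv_one, mul_one] at this
    exact mem_cent.2 this
  -- representatives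
  have hrep : ∀ w ∈ (P : Subgroup G), w ∉ D → ∀ g : G, ∃ i : ℕ,
      g * x * g⁻¹ = w ^ i * x * (w ^ i)⁻¹ := by
    intro w hw hwD g
    have hwH : w ∉ H := fun h => hwD ((hPH.le ⟨hw, h⟩).2)
    have hfinj : Function.Injective (fun i : Fin p => (QuotientGroup.mk (w ^ (i : ℕ)) : G ⧸ H)) := by
      intro i j e
      wlog hij : (i : ℕ) ≤ j generalizing i j
      · exact (this e.symm (le_of_not_ge hij)).symm
      have e' := QuotientGroup.eq.mp e
      rw [← pow_sub_mul_pow w hij, ← mul_assoc,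
        (Commute.pow_pow_self w i (j - i)).inv_left.eq, mul_assoc, inv_mul_cancel, mul_one] at e'
      apply Fin.ext
      by_contra hne
      set d := (j : ℕ) - i with hd
      have hcop : d.Coprime p := by
        rw [Nat.coprime_comm, hp.out.coprime_iff_not_dvd]
        exact fun h => absurd (Nat.le_of_dvd (by omega) h) (by omega)
      obtain ⟨c, hc⟩ := Nat.exists_mul_mod_eq_one_of_coprime hcop hp.out.one_lt
      refine hwH ?_
      have h1 : w ^ (d * c) ∈ H := by rw [pow_mul]; exact pow_mem e' c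
      rw [← Nat.mod_add_div (d * c) p, hc.2, pow_add, pow_one, pow_mul] at h1
      exact (Subgroup.mul_mem_cancel_right H (pow_mem (hDH (hexp w hw)) _)).mp h1
    have hsurj := ((Nat.bijective_iff_injective_and_card _).mpr ⟨hfinj, by
      rw [Nat.card_fin]; exact (hx.trans hmp).symm⟩).2
    obtain ⟨i, hi⟩ := hsurj (QuotientGroup.mk g)
    refine ⟨i, ?_⟩
    have h1 : Commute ((w ^ (i : ℕ))⁻¹ * g) x := mem_cent.1 (QuotientGroup.eq.mp hi)
    have e : g * x * g⁻¹ = w ^ (i : ℕ) * (((w ^ (i : ℕ))⁻¹ * g) * x * ((w ^ (i : ℕ))⁻¹ * g)⁻¹)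
        * (w ^ (i : ℕ))⁻¹ := by group
    rw [e, h1.eq, mul_inv_cancel_right]
  obtain ⟨w₀, hw₀, hw₀D⟩ := SetLike.not_le_iff_exists.mp hyD
  have hDK : D ≤ K := by
    intro d hd u
    obtain ⟨i, hi⟩ := hrep w₀ hw₀ hw₀D u
    rw [hi]
    exact mem_cent.1 (hqc _ (hPD _ (pow_mem hw₀ i) x hxD) (pelt_conj _ hxq) hd)
  refine ⟨x, K, ⟨hAc, hrel, hxq, hxD, hx, hPH, hKn, hDK, hKH, fun w hw hwD g hgq hgw => ?_⟩⟩
  haveI := hKn
  obtain ⟨i, hi⟩ := hrep w hw hwD g
  have hk : (w ^ i)⁻¹ * g ∈ K := by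
    intro u
    obtain ⟨j, hj⟩ := hrep w hw hwD u
    rw [hj]
    have hco : Commute ((w ^ i)⁻¹ * g) (w ^ j) :=
      ((Commute.pow_pow_self w i j).inv_left).mul_left (hgw.pow_right j)
    have hfx : Commute ((w ^ i)⁻¹ * g) x := by
      refine mul_inv_eq_iff_eq_mul.mp ?_
      calc (w ^ i)⁻¹ * g * x * ((w ^ i)⁻¹ * g)⁻¹ = (w ^ i)⁻¹ * (g * x * g⁻¹) * w ^ i := by group
        _ = x := by rw [hi]; group
    exact (hco.mul_right hfx).mul_right hco.inv_right
  have hwi : w ^ i = g * ((w ^ i)⁻¹ * g)⁻¹ := by group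
  have heq : (QuotientGroup.mk g : G ⧸ K) = QuotientGroup.mk (w ^ i) :=
    (QuotientGroup.eq.mpr hk).symm
  rw [← QuotientGroup.eq_one_iff]
  refine pelt_eq_one hpq ?_ ?_
  · rw [heq]
    obtain ⟨k, hk'⟩ := pelt_pow (pelt_of_mem P.isPGroup' hw) i
    exact ⟨k, (orderOf_map_dvd (QuotientGroup.mk' K) _).trans hk'⟩
  · obtain ⟨k, hk'⟩ := hgq
    exact ⟨k, (orderOf_map_dvd (QuotientGroup.mk' K) _).trans hk'⟩

end Cfsg.Agent.Fg24.Sizes1mn
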