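import Cfsg.Agent.Fg24.Sizes1mn.Basic

/-!
# Tools: second centre elements, congruences, commutators
-/

set_option autoImplicit false

open Subgroup

namespace Cfsg.Agent.Fg24.Sizes1mn

variable {G : Type*} [Group G]

local notation "C[" x "]" => Subgroup.centralizer ({x} : Set G)

theorem normal_of_conj {D M : Subgroup G} (h : ∀ g ∈ M, ∀ d ∈ D, g * d * g⁻¹ ∈ D) :
    (D.subgroupOf M).Normal :=
  ⟨fun d hd g => mem_subgroupOf.mpr (h g g.2 d (mem_subgroupOf.mp hd))⟩

variable [Finite G]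

theorem mem_of_coprime_relIndex {D M : Subgroup G} (hn : ∀ g ∈ M, ∀ d ∈ D, g * d * g⁻¹ ∈ D)
    {g : G} (hg : g ∈ M) (hc : (orderOf g).Coprime (D.relIndex M)) : g ∈ D := by
  haveI := normal_of_conj hn
  refine mem_subgroupOf.mp ((QuotientGroup.eq_one_iff (⟨g, hg⟩ : M)).mp ?_)
  refine orderOf_eq_one_iff.mp (Nat.eq_one_of_dvd_coprimes hc ?_ ?_)
  · have h := orderOf_map_dvd (QuotientGroup.mk' (D.subgroupOf M)) (⟨g, hg⟩ : M)
    rwa [Subgroup.orderOf_mk] at h
  · exact orderOf_dvd_natCard _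

theorem dvd_relIndex {D M : Subgroup G} {p : ℕ} [hp : Fact p.Prime]
    (hn : ∀ g ∈ M, ∀ d ∈ D, g * d * g⁻¹ ∈ D) {g : G} (hg : g ∈ M) (hgp : PElt p g) (hgD : g ∉ D) :
    p ∣ D.relIndex M := by
  by_contra h
  obtain ⟨k, hk⟩ := hgp
  exact hgD (mem_of_coprime_relIndex hn hg
    ((((Nat.Prime.coprime_iff_not_dvd hp.out).mpr h).pow_left k).coprime_dvd_left hk))

/-- A `p`-element of second central type in a non-central `p`-subgroup. -/
theorem exists_second {p : ℕ} [hp : Fact p.Prime] {P : Subgroup G} (hP : IsPGroup p P)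
    (hne : ¬ P ≤ center G) :
    ∃ y ∈ P, y ∉ center G ∧ y ^ p ∈ center G ∧ ∀ s ∈ P, s * y * s⁻¹ * y⁻¹ ∈ center G := by
  haveI : ((center G).subgroupOf P).Normal := inferInstance
  haveI : Nontrivial (↥P ⧸ (center G).subgroupOf P) :=
    QuotientGroup.nontrivial_iff.mpr (fun e => hne (subgroupOf_eq_top.mp e))
  have hQ : IsPGroup p (↥P ⧸ (center G).subgroupOf P) := hP.to_quotient _
  haveI := hQ.center_nontrivial
  have hd : p ∣ Nat.card (center (↥P ⧸ (center G).subgroupOf P)) := by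
    obtain ⟨i, hi⟩ := IsPGroup.iff_card.mp (hQ.to_subgroup (center _))
    rw [hi]
    refine dvd_pow_self p fun e0 => ?_
    rw [e0, pow_zero] at hi
    exact absurd hi Finite.one_lt_card.ne'
  obtain ⟨⟨c, hc⟩, hco⟩ := exists_prime_orderOf_dvd_card' p hd
  rw [Subgroup.orderOf_mk] at hco
  obtain ⟨⟨y, hyP⟩, rfl⟩ := QuotientGroup.mk_surjective c
  refine ⟨y, hyP, fun h => ?_, ?_, fun s hs => ?_⟩
  · have h1 : (QuotientGroup.mk ⟨y, hyP⟩ : ↥P ⧸ (center G).subgroupOf P) = 1 :=
      (QuotientGroup.eq_one_iff _).mpr (mem_subgroupOf.mpr h)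
    rw [h1, orderOf_one] at hco
    exact hp.out.ne_one hco.symm
  · have h1 := pow_orderOf_eq_one (QuotientGroup.mk ⟨y, hyP⟩ : ↥P ⧸ (center G).subgroupOf P)
    rw [hco, ← QuotientGroup.mk_pow, QuotientGroup.eq_one_iff, mem_subgroupOf] at h1
    exact h1
  · have h1 := Subgroup.mem_center_iff.mp hc (QuotientGroup.mk ⟨s, hs⟩)
    have h2 : (QuotientGroup.mk (⟨s, hs⟩ * ⟨y, hyP⟩ * (⟨s, hs⟩ : P)⁻¹ * (⟨y, hyP⟩ : P)⁻¹) :
        ↥P ⧸ (center G).subgroupOf P) = 1 := by
      simp only [QuotientGroup.mk_mul, QuotientGroup.mk_inv]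
      rw [h1, mul_inv_cancel_right, mul_inv_cancel]
    rw [QuotientGroup.eq_one_iff, mem_subgroupOf] at h2
    exact h2

omit [Finite G] in
/-- Elements moving `y` by central elements normalise `C(y)`. -/
theorem conj_mem_cent {y s u : G} (h : s * y * s⁻¹ * y⁻¹ ∈ center G) :
    s * u * s⁻¹ ∈ C[y] ↔ u ∈ C[y] := by
  rw [← conj_mem_centralizer (g := s) (x := y) (u := u)]
  rw [mem_centralizer_singleton_iff, mem_centralizer_singleton_iff]
  have e : s * y * s⁻¹ = (s * y * s⁻¹ * y⁻¹) * y := by group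
  conv_rhs => rw [e]
  set z := s * y * s⁻¹ * y⁻¹
  set v := s * u * s⁻¹
  have hz : ∀ g, g * z = z * g := fun g => mem_center_iff.mp h g
  constructor
  · intro h1
    rw [← mul_assoc, hz v, mul_assoc, h1, ← mul_assoc]
  · intro h1
    rw [← mul_assoc, hz v, mul_assoc, mul_assoc z y v] at h1
    exact mul_left_cancel h1

/-- A `p`-element moving all non-central elements of `Q` gives a congruence. -/
theorem relIndex_center_modEq {p : ℕ} [hp : Fact p.Prime] {Q : Subgroup G} {w : G}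
    (hw : PElt p w) (hn : ∀ v ∈ Q, w * v * w⁻¹ ∈ Q) (hQ : ∀ v ∈ Q, (orderOf v).Coprime p)
    (hmov : ∀ v ∈ Q, Commute w v → v ∈ center G) :
    (center G).relIndex Q ≡ 1 [MOD p] := by
  classical
  set Z' := (center G).subgroupOf Q with hZ'
  let Ω := ↥Q ⧸ Z'
  let f : Ω → Ω := Quotient.map' (fun v : Q => (⟨w * v * w⁻¹, hn v v.2⟩ : Q)) (by
    intro a b hab
    rw [QuotientGroup.leftRel_apply, hZ', mem_subgroupOf] at hab ⊢
    simp only [Subgroup.coe_mul, Subgroup.coe_inv] at hab ⊢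
    have e : (w * a * w⁻¹)⁻¹ * (w * b * w⁻¹) = w * ((a : G)⁻¹ * b) * w⁻¹ := by group
    rw [e]
    exact (inferInstance : (center G).Normal).conj_mem _ hab w)
  have hinj : Function.Injective f := by
    intro a b
    refine Quotient.inductionOn₂' a b fun u v e => Quotient.sound' ?_
    have e' := Quotient.exact' e
    rw [QuotientGroup.leftRel_apply, hZ', mem_subgroupOf] at e' ⊢
    simp only [Subgroup.coe_mul, Subgroup.coe_inv] at e' ⊢
    have e2 : (u : G)⁻¹ * v = w⁻¹ * ((w * u * w⁻¹)⁻¹ * (w * v * w⁻¹)) * w := by group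
    rw [e2, mem_center_iff.mp e' w⁻¹, inv_mul_cancel_right]
    exact e'
  let σ : Equiv.Perm Ω := Equiv.ofBijective f ⟨hinj, Finite.injective_iff_surjective.mp hinj⟩
  have hσ : ∀ (k : ℕ) (v : Q), (σ ^ k) (QuotientGroup.mk v) = f^[k] (QuotientGroup.mk v) := by
    intro k v
    rw [Equiv.Perm.coe_pow]
    rfl
  have hf : ∀ (k : ℕ) (v : Q), ∃ v' : Q, f^[k] (QuotientGroup.mk v) = QuotientGroup.mk v' ∧
      (v' : G) = w ^ k * v * (w ^ k)⁻¹ := by
    intro k v
    induction k with
    | zero => exact ⟨v, rfl, by simp⟩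
    | succ k IH =>
      obtain ⟨v', h1, h2⟩ := IH
      refine ⟨⟨w * v' * w⁻¹, hn v' v'.2⟩, ?_, ?_⟩
      · rw [Function.iterate_succ_apply', h1]
        rfl
      · show w * (v' : G) * w⁻¹ = _
        rw [h2, pow_succ']
        group
  obtain ⟨j, hj⟩ := hw
  have hpow : σ ^ p ^ j = 1 := by
    ext q
    induction q using QuotientGroup.induction_on with
    | H v =>
      obtain ⟨v', h1, h2⟩ := hf (p ^ j) v
      rw [hσ, h1, Equiv.Perm.one_apply]
      congr 1
      apply Subtype.ext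
      rw [h2, orderOf_dvd_iff_pow_eq_one.mp hj]
      simp
  haveI : Fintype Ω := Fintype.ofFinite Ω
  have hfix : σ.supportᶜ = {(QuotientGroup.mk 1 : Ω)} := by
    ext q
    simp only [Finset.mem_compl, Equiv.Perm.mem_support, not_not, Finset.mem_singleton]
    induction q using QuotientGroup.induction_on with
    | H v =>
      constructor
      · intro hv
        have e : f (QuotientGroup.mk v) = QuotientGroup.mk v := hv
        have e' := Quotient.exact' e
        rw [QuotientGroup.leftRel_apply, hZ', mem_subgroupOf] at e'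
        simp only [Subgroup.coe_mul, Subgroup.coe_inv] at e'
        rw [QuotientGroup.mk_one, QuotientGroup.eq_one_iff, hZ', mem_subgroupOf]
        refine hmov v v.2 (commute_of_conj_eq (c := ((w * v * w⁻¹)⁻¹ * v)⁻¹) ?_
          (mem_center_iff.mp (inv_mem e') w) (mem_center_iff.mp (inv_mem e') v) ?_)
        · have := mem_center_iff.mp (inv_mem e') (v : G)
          rw [← this]
          group
        · exact ((((hQ v v.2).symm.pow_left j).coprime_dvd_left hj))
      · intro hv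
        rw [hv]
        show f (QuotientGroup.mk 1) = _
        exact congrArg Quotient.mk'' (Subtype.ext (by simp))
  have key := Equiv.Perm.card_compl_support_modEq (p := p) (n := j) hpow
  have hfix' : σ.supportᶜ.card = 1 := by
    rw [show σ.supportᶜ = {(QuotientGroup.mk 1 : Ω)} by convert hfix]
    exact Finset.card_singleton _
  rw [hfix', ← Nat.card_eq_fintype_card] at key
  exact key.symm

end Cfsg.Agent.Fg24.Sizes1mn
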